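import Cfsg.Agent.Lib.SEMain.Omega.Three

/-!
# No group is two-fold transitive on the non-identity elements of an elementary abelian group of its involutions
-/

set_option autoImplicit false

namespace Cfsg.Agent.SEMain.Omega

universe u

/-- If a normal elementary abelian subgroup of order more than 2 contains every involution of a finite group,
conjugation is not two-fold transitive on its non-identity elements. -/
theorem not_twoTransitive {X : Type u} [Group X] [Finite X] {W : Subgroup X} (hc : Cfg W)
    (hW : 2 < Nat.card W) : False :=
  not_twoTransitive_of_eight false_of_card_eight X W hc hW

end Cfsg.Agent.SEMain.Omega
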