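import Cfsg.Agent.Lib.SEMain.Omega.Layer

/-!
The normal 2-subgroup in the setting of `Three` is abelian and homocyclic.
-/

set_option autoImplicit false
set_option linter.unusedSectionVars false
set_option linter.style.haveILetI false

namespace Cfsg.Agent.SEMain.Omega

open Matrix Mat

universe u

variable {X : Type u} [Group X] [Finite X]

namespace Three

variable (d : Three X)

/-- The induction behind `Three.homocyclic`, on the order of the group. -/
theorem homocyclic_aux (n : ℕ) : ∀ (X : Type u) [Group X] [Finite X] (d : Three X),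
    Nat.card X = n → d.Homocyclic := by
  induction n using Nat.strong_induction_on with
  | h n ih =>
  intro X _ _ d hn
  classical
  by_cases hne : d.Q = d.W
  · refine ⟨fun p hp q hq => d.commW (hne ▸ hq) hp, 0, fun q hq => ?_, fun w hw => ⟨w, d.le hw, by simp⟩⟩
    rw [zero_add, pow_one, pow_two]
    exact d.sq_W (hne ▸ hq)
  obtain ⟨u, huQ, hu2, huadd, hueq, hcent, hinv⟩ := d.exists_layer hne
  haveI := d.nW
  haveI := d.nQ
  let π : X →* X ⧸ d.W := QuotientGroup.mk' d.W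
  have hπ : Function.Surjective π := QuotientGroup.mk'_surjective _
  have hker : ∀ {p q : X}, p⁻¹ * q ∈ d.W → π p = π q := fun h => QuotientGroup.eq.2 h
  have hcancel : ∀ {p q : X}, π p = π q → p⁻¹ * q ∈ d.W := fun h => QuotientGroup.eq.1 h
  let vb : V3 → X ⧸ d.W := fun a => π (u a)
  have hvadd : ∀ a b, vb (a + b) = vb a * vb b := fun a b => by
    show π _ = π _ * π _
    rw [← map_mul]; exact hker (huadd a b)
  have hvinj : ∀ a b, vb a = vb b → a = b := fun a b h => d.v_inj a b <| by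
    have hw := hcancel h
    obtain ⟨w, hw', e⟩ : ∃ w ∈ d.W, u b = u a * w := ⟨_, hw, by group⟩
    calc d.v a = u a * u a * (w * w) := by rw [hu2, d.sq_W hw', mul_one]
      _ = u a * (u a * w) * w := by group
      _ = u a * (w * u a) * w := by rw [d.commW hw' (huQ a)]
      _ = u b * u b := by rw [e]; group
      _ = d.v b := hu2 b
  let Wb : Subgroup (X ⧸ d.W) :=
    { carrier := Set.range vb
      one_mem' := ⟨0, by
        have h := hvadd 0 0
        rwa [add_zero, eq_comm, mul_eq_left] at h⟩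
      mul_mem' := by rintro _ _ ⟨a, rfl⟩ ⟨b, rfl⟩; exact ⟨a + b, hvadd a b⟩
      inv_mem' := by
        rintro _ ⟨a, rfl⟩
        refine ⟨a, (inv_eq_of_mul_eq_one_right ?_).symm⟩
        show π (u a) * π (u a) = 1
        rw [← map_mul, hu2]
        exact (QuotientGroup.eq_one_iff _).2 (d.v_mem a) }
  let ρb : X ⧸ d.W → M3 := fun c => d.ρ c.out
  have hρb : ∀ x, ρb (π x) = d.ρ x := fun x => by
    have h : ((π x).out)⁻¹ * x ∈ d.W := hcancel (QuotientGroup.out_eq' _)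
    have h' := d.ρ_mul (π x).out (((π x).out)⁻¹ * x)
    rw [mul_inv_cancel_left, d.cent _ (d.le h), mul_one] at h'
    exact h'.symm
  have hvQ : ∀ a, vb a ∈ d.Q.map π := fun a => ⟨u a, huQ a, rfl⟩
  have hspec : ∀ c a, c * vb a * c⁻¹ = vb (ρb c *ᵥ a) := by
    intro c a
    obtain ⟨x, rfl⟩ := hπ c
    rw [hρb]
    show π x * π (u a) * (π x)⁻¹ = π _
    rw [← map_inv, ← map_mul, ← map_mul]
    exact (hker (hueq x a)).symm
  let db : Three (X ⧸ d.W) :=
    { W := Wb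
      Q := d.Q.map π
      nW := ⟨by rintro _ ⟨a, rfl⟩ c; exact ⟨_, (hspec c a).symm⟩⟩
      nQ := d.nQ.map π hπ
      v := vb
      ρ := ρb
      v_mem := fun a => ⟨a, rfl⟩
      v_surj := fun w hw => hw
      v_inj := hvinj
      v_add := hvadd
      spec := hspec
      surj := fun M hM => by obtain ⟨x, hx⟩ := d.surj M hM; exact ⟨π x, by rw [hρb, hx]⟩
      le := by rintro _ ⟨a, rfl⟩; exact hvQ a
      pQ := d.pQ.map π
      cent := by rintro _ ⟨q, hq, rfl⟩; rw [hρb, d.cent q hq]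
      inner := by
        intro c hc
        obtain ⟨x, rfl⟩ := hπ c
        rw [hρb] at hc
        obtain ⟨q, hq, hk⟩ := d.inner x hc
        refine ⟨π q, ⟨q, hq, rfl⟩, ?_⟩
        rintro _ ⟨p, hp, rfl⟩
        rw [← map_inv, ← map_inv, ← map_mul, ← map_mul, ← map_mul, ← map_mul, hk p hp]
      inv := by
        rintro _ ⟨q, hq, rfl⟩ h
        rw [← map_mul] at h
        obtain ⟨a, ha⟩ := hinv q hq ((QuotientGroup.eq_one_iff _).1 h)
        exact ⟨a, hker ha⟩ }
  have hlt : Nat.card (X ⧸ d.W) < n := by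
    rw [← hn, Subgroup.card_eq_card_quotient_mul_card_subgroup d.W]
    refine lt_mul_of_one_lt_right Nat.card_pos ((Subgroup.one_lt_card_iff_ne_bot _).2 fun e => ?_)
    have h := d.v_mem e1
    rw [e, Subgroup.mem_bot, ← d.v_zero] at h
    exact vec_eqs.1 (d.v_inj _ _ h)
  obtain ⟨habel, r, hexp, hroot⟩ := ih _ hlt (X ⧸ d.W) db rfl
  have hexp' : ∀ q ∈ d.Q, q ^ 2 ^ (r + 1) ∈ d.W := fun q hq => by
    rw [← QuotientGroup.eq_one_iff]
    show π _ = 1
    rw [map_pow]; exact hexp _ ⟨q, hq, rfl⟩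
  have hroot' : ∀ a, ∃ q ∈ d.Q, π (q ^ 2 ^ r) = vb a := fun a => by
    obtain ⟨_, ⟨q, hq, rfl⟩, h⟩ := hroot _ ⟨a, rfl⟩
    exact ⟨q, hq, by rw [map_pow, h]⟩
  choose qa hqaQ hqa using hroot'
  -- an element of the quotient killed by `2 ^ j` is a square
  have hsquare : ∀ j ≤ r, ∀ c ∈ d.Q.map π, c ^ 2 ^ j = 1 → ∃ p ∈ d.Q.map π, c = p * p := by
    intro j
    induction j with
    | zero => exact fun _ c _ h => ⟨1, one_mem _, by rw [pow_zero, pow_one] at h; rw [h, mul_one]⟩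
    | succ j ihj =>
      intro hj c hc h
      have hcW : c ^ 2 ^ j ∈ Wb := db.inv _ (pow_mem hc _) (by
        rw [← pow_add, ← mul_two, ← pow_succ]; exact h)
      obtain ⟨p, hp, hpw⟩ := hroot _ hcW
      set e := p ^ 2 ^ (r - j) with he
      have heQ : e ∈ d.Q.map π := pow_mem hp _
      have hej : e ^ 2 ^ j = c ^ 2 ^ j := by
        rw [he, ← pow_mul, ← pow_add, show r - j + j = r by omega]; exact hpw
      have hcomm : Commute c e⁻¹ := (show Commute c e from habel c hc e heQ).inv_right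
      obtain ⟨s, hs, hse⟩ := ihj (by omega) (c * e⁻¹) (mul_mem hc (inv_mem heQ))
        (by rw [hcomm.mul_pow, inv_pow, hej, mul_inv_cancel])
      obtain ⟨m, hm⟩ : ∃ m, 2 ^ (r - j) = m + m := ⟨2 ^ (r - j - 1), by
        rw [← two_mul, ← pow_succ', show r - j - 1 + 1 = r - j by omega]⟩
      refine ⟨s * p ^ m, mul_mem hs (pow_mem hp _), ?_⟩
      have hsp : Commute (p ^ m) s := habel _ (pow_mem hp _) s hs
      calc c = c * e⁻¹ * e := by group
        _ = s * s * (p ^ m * p ^ m) := by rw [hse, he, hm, pow_add]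
        _ = s * (p ^ m * s) * p ^ m := by rw [hsp.eq]; group
        _ = _ := by group
  have hcoW : ∀ p ∈ d.Q, ∀ q ∈ d.Q, co p q ∈ d.W := fun p hp q hq => d.co_mem <| by
    show π (p * q) = π (q * p)
    rw [map_mul, map_mul]; exact habel _ ⟨p, hp, rfl⟩ _ ⟨q, hq, rfl⟩
  -- commutators only depend on the image in `W` under the power map
  have hdep : ∀ p ∈ d.Q, ∀ q ∈ d.Q, ∀ s ∈ d.Q, π (p ^ 2 ^ r) = π (q ^ 2 ^ r) → co p s = co q s := by
    intro p hp q hq s hs h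
    have hpq : q⁻¹ * p ∈ d.Q := mul_mem (inv_mem hq) hp
    obtain ⟨_, ⟨z, hz, rfl⟩, hzz⟩ := hsquare r le_rfl (π (q⁻¹ * p)) ⟨_, hpq, rfl⟩ (by
      rw [map_mul, map_inv, (Commute.inv_left (habel _ ⟨q, hq, rfl⟩ _ ⟨p, hp, rfl⟩)).mul_pow, inv_pow,
        ← map_pow, ← map_pow, h, inv_mul_cancel])
    have hw : (z * z)⁻¹ * (q⁻¹ * p) ∈ d.W := hcancel (by rw [map_mul, hzz])
    obtain ⟨w, hw', rfl⟩ : ∃ w ∈ d.W, p = q * (z * z * w) := ⟨_, hw, by group⟩
    have e1 : co (z * z * w) s = 1 := by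
      have h1 : co w s = 1 := (d.co_W hw' hs).2
      rw [d.co_mul_left (mul_mem hz hz) (by rw [h1]; exact one_mem _), h1, one_mul,
        d.co_mul_left hz (hcoW z hz s hs), d.sq_W (hcoW z hz s hs)]
    rw [d.co_mul_left hq (by rw [e1]; exact one_mem _), e1, one_mul]
  let β : V3 → V3 → V3 := fun a b => d.vi (co (qa a) (qa b))
  have hβ : ∀ a b, β a b = 0 := by
    refine alt_zero β ?_ ?_ ?_ ?_
    · intro M hM a b
      obtain ⟨x, hx⟩ := d.surj M hM
      show d.vi _ = _ *ᵥ d.vi _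
      rw [← hx, ← d.vi_conj x (hcoW _ (hqaQ a) _ (hqaQ b)), conj_co]
      have key : ∀ c, x * qa c * x⁻¹ ∈ d.Q ∧ π ((x * qa c * x⁻¹) ^ 2 ^ r) = π (qa (d.ρ x *ᵥ c) ^ 2 ^ r) :=
        fun c => ⟨d.nQ.conj_mem _ (hqaQ c) x, by
          rw [conj_pow, map_mul, map_mul, map_inv, hqa, hqa, hspec, hρb]⟩
      have hswap : ∀ p ∈ d.Q, ∀ q ∈ d.Q, co p q = co q p := fun p hp q hq => (d.co_symm (hcoW p hp q hq)).symm
      rw [hdep _ (key a).1 _ (hqaQ _) _ (key b).1 (key a).2, hswap _ (hqaQ _) _ (key b).1,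
        hdep _ (key b).1 _ (hqaQ _) _ (hqaQ _) (key b).2, hswap _ (hqaQ _) _ (hqaQ _)]
    · intro a b c
      show d.vi _ = d.vi _ + d.vi _
      rw [hdep (qa (a + b)) (hqaQ _) (qa a * qa b) (mul_mem (hqaQ a) (hqaQ b)) _ (hqaQ c) (by
          rw [map_pow, map_pow, map_mul, (show Commute (π (qa a)) (π (qa b)) from
            habel _ ⟨_, hqaQ a, rfl⟩ _ ⟨_, hqaQ b, rfl⟩).mul_pow, ← map_pow, ← map_pow, ← map_pow,
            hqa, hqa, hqa, hvadd]),
        d.co_mul_left (hqaQ a) (hcoW _ (hqaQ b) _ (hqaQ c)),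
        d.vi_mul (hcoW _ (hqaQ b) _ (hqaQ c)) (hcoW _ (hqaQ a) _ (hqaQ c)), add_comm]
    · exact fun a b => congrArg d.vi (d.co_symm (hcoW _ (hqaQ b) _ (hqaQ a)))
    · intro a
      show d.vi _ = 0
      rw [show co (qa a) (qa a) = 1 by simp [co, mul_assoc], d.vi_one]
  refine ⟨fun p hp q hq => ?_, r + 1, fun q hq => ?_, fun w hw => ?_⟩
  · obtain ⟨a, ha⟩ : π (p ^ 2 ^ r) ∈ Wb := db.inv _ (by rw [map_pow]; exact (d.Q.map π).pow_mem ⟨p, hp, rfl⟩ _) (by
      rw [map_pow, ← pow_add, ← mul_two, ← pow_succ]; exact hexp _ ⟨p, hp, rfl⟩)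
    obtain ⟨b, hb⟩ : π (q ^ 2 ^ r) ∈ Wb := db.inv _ (by rw [map_pow]; exact (d.Q.map π).pow_mem ⟨q, hq, rfl⟩ _) (by
      rw [map_pow, ← pow_add, ← mul_two, ← pow_succ]; exact hexp _ ⟨q, hq, rfl⟩)
    have hswap : ∀ p ∈ d.Q, ∀ q ∈ d.Q, co p q = co q p := fun p hp q hq => (d.co_symm (hcoW p hp q hq)).symm
    have h : co p q = 1 := by
      rw [hdep p hp (qa a) (hqaQ a) q hq (by rw [hqa, ha]), hswap _ (hqaQ a) _ hq,
        hdep q hq (qa b) (hqaQ b) _ (hqaQ a) (by rw [hqa, hb]), hswap _ (hqaQ b) _ (hqaQ a),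
        ← d.v_vi (hcoW _ (hqaQ a) _ (hqaQ b)), show d.vi (co (qa a) (qa b)) = 0 from hβ a b, d.v_zero]
    calc p * q = co p q * (q * p) := by simp [co, mul_assoc]
      _ = q * p := by rw [h, one_mul]
  · rw [pow_succ, pow_mul, pow_two]
    exact d.sq_W (hexp' q hq)
  · obtain ⟨a, rfl⟩ := d.v_surj w hw
    refine ⟨qa a, hqaQ a, ?_⟩
    have hw' : (u a)⁻¹ * qa a ^ 2 ^ r ∈ d.W := hcancel (hqa a).symm
    obtain ⟨z, hz, hzeq⟩ : ∃ z ∈ d.W, qa a ^ 2 ^ r = u a * z := ⟨_, hw', by group⟩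
    calc qa a ^ 2 ^ (r + 1) = u a * z * (u a * z) := by rw [pow_succ, pow_mul, pow_two, hzeq]
      _ = u a * (z * u a) * z := by group
      _ = (u a * u a) * (z * z) := by rw [← d.commW hz (huQ a)]; group
      _ = d.v a := by rw [hu2, d.sq_W hz, mul_one]

theorem homocyclic : d.Homocyclic := homocyclic_aux _ X d rfl

end Three

end Cfsg.Agent.SEMain.Omega
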