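import Cfsg.Agent.Lib.SEMain.Omega.Mat
import Mathlib.Algebra.Group.Basic

/-!
An elementary abelian group with an anisotropic equivariant quadratic map to the natural module of `GL(3,2)`
contains a copy of the natural module on which the map is linear.
-/

set_option autoImplicit false

namespace Cfsg.Agent.SEMain.Omega

open Matrix Mat

/-- The action of the invertible matrices and an anisotropic equivariant quadratic map. -/
structure Quad (V : Type*) [AddCommGroup V] where
  act : M3 → V → V
  sq : V → V3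
  two : ∀ v : V, v + v = 0
  act_one : ∀ v : V, act 1 v = v
  act_mul : ∀ M N : M3, M.det = 1 → N.det = 1 → ∀ v : V, act (M * N) v = act M (act N v)
  act_add : ∀ M : M3, M.det = 1 → ∀ u v : V, act M (u + v) = act M u + act M v
  sq_zero : sq 0 = 0
  sq_ne : ∀ v : V, v ≠ 0 → sq v ≠ 0
  sq_act : ∀ M : M3, M.det = 1 → ∀ v : V, sq (act M v) = M *ᵥ sq v
  polar : ∀ u v w : V, sq (u + v + w) + sq (u + v) + sq (u + w) + sq (v + w) + sq u + sq v + sq w = 0

theorem two_vec (u : V3) : u + u = 0 := by
  funext i; exact CharTwo.add_self_eq_zero (u i)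

theorem exists_fixed_of_sq {V : Type*} [AddCommGroup V] (f : V → V) (htwo : ∀ v : V, v + v = 0)
    (hadd : ∀ u v, f (u + v) = f u + f v) {v : V} (hff : f (f v) = v) (hv : v ≠ 0) :
    ∃ w, (w = v ∨ w = v + f v) ∧ w ≠ 0 ∧ f w = w := by
  by_cases h : f v = v
  · exact ⟨v, Or.inl rfl, hv, h⟩
  · refine ⟨v + f v, Or.inr rfl, fun e => h ?_, ?_⟩
    · calc f v = f v + (v + f v) := by rw [e, add_zero]
        _ = v + (f v + f v) := by abel
        _ = v := by rw [htwo, add_zero]
    · rw [hadd, hff, add_comm]

/-- Three involutive maps generating a dihedral group of order 8 fix a common non-zero element. -/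
theorem exists_fixed_three {V : Type*} [AddCommGroup V] (htwo : ∀ v : V, v + v = 0) (f g h : V → V)
    (fa : ∀ u v, f (u + v) = f u + f v) (ga : ∀ u v, g (u + v) = g u + g v)
    (ha : ∀ u v, h (u + v) = h u + h v) (ff : ∀ v, f (f v) = v) (gg : ∀ v, g (g v) = v)
    (hh : ∀ v, h (h v) = v) (fg : ∀ v, f (g v) = g (f v)) (fh : ∀ v, f (h v) = h (f v))
    (gh : ∀ v, g (h v) = f (h (g v))) {v : V} (hv : v ≠ 0) :
    ∃ w, w ≠ 0 ∧ f w = w ∧ g w = w ∧ h w = w := by
  obtain ⟨a, -, ha0, hfa⟩ := exists_fixed_of_sq f htwo fa (ff v) hv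
  obtain ⟨b, hb, hb0, hgb⟩ := exists_fixed_of_sq g htwo ga (gg a) ha0
  have hfb : f b = b := by
    rcases hb with rfl | rfl
    · exact hfa
    · rw [fa, fg, hfa]
  obtain ⟨c, hc, hc0, hhc⟩ := exists_fixed_of_sq h htwo ha (hh b) hb0
  refine ⟨c, hc0, ?_, ?_, hhc⟩
  · rcases hc with rfl | rfl
    · exact hfb
    · rw [fa, fh, hfb]
  · rcases hc with rfl | rfl
    · exact hgb
    · rw [ga, gh, hgb, fh, hfb]

namespace Quad

variable {V : Type*} [AddCommGroup V] (d : Quad V)

/-- The polar form. -/
def B (u v : V) : V3 := d.sq (u + v) + d.sq u + d.sq v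

theorem B_comm (u v : V) : d.B u v = d.B v u := by simp only [B, add_comm u v]; abel

theorem B_self (u : V) : d.B u u = 0 := by
  simp only [B, d.two, d.sq_zero, zero_add, two_vec]

theorem B_add_left (u v w : V) : d.B (u + v) w = d.B u w + d.B v w := by
  have h := d.polar u v w
  simp only [B]
  funext i
  have hi := congrFun h i
  simp only [Pi.add_apply, Pi.zero_apply] at hi ⊢
  generalize d.sq (u + v + w) i = a at *
  generalize d.sq (u + v) i = b at *
  generalize d.sq (u + w) i = c at *
  generalize d.sq (v + w) i = k at *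
  generalize d.sq u i = x at *
  generalize d.sq v i = y at *
  generalize d.sq w i = z at *
  revert a b c k x y z
  decide

theorem B_add_right (u v w : V) : d.B u (v + w) = d.B u v + d.B u w := by
  rw [B_comm, B_add_left, d.B_comm v, d.B_comm w]

theorem B_act {M : M3} (hM : M.det = 1) (u v : V) : d.B (d.act M u) (d.act M v) = M *ᵥ d.B u v := by
  simp only [B, ← d.act_add M hM, d.sq_act M hM, mulVec_add]

theorem act_zero {M : M3} (hM : M.det = 1) : d.act M 0 = 0 := by
  have h := d.act_add M hM 0 0
  rwa [add_zero, eq_comm, add_eq_left] at h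

theorem act_ne_zero {M : M3} (hM : M.det = 1) {v : V} (hv : v ≠ 0) : d.act M v ≠ 0 := fun e => hv <| by
  have h := d.act_mul M.adjugate M (det_adj hM) hM v
  rw [adj_mul hM, d.act_one, e, d.act_zero (det_adj hM)] at h
  exact h

theorem act_sq_one {M : M3} (hM : M.det = 1) (h : M * M = 1) (v : V) : d.act M (d.act M v) = v := by
  rw [← d.act_mul M M hM hM, h, d.act_one]

/-- A non-zero vector fixed by the dihedral group of the flag `(e1, <e1, e2>)`. -/
theorem exists_flag (h0 : ∃ v : V, v ≠ 0) :
    ∃ a : V, a ≠ 0 ∧ d.act X a = a ∧ d.act X' a = a ∧ d.act X1 a = a ∧ d.sq a = e1 := by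
  obtain ⟨v, hv⟩ := h0
  obtain ⟨-, -, -, -, -, -, -, -, -, hX'2, hX2, hX12, hc1, hc2, hc3⟩ := rel_eqs
  obtain ⟨a, ha0, h1, h2, h3⟩ := exists_fixed_three d.two (d.act X) (d.act X') (d.act X1)
    (d.act_add X det_X) (d.act_add X' det_X') (d.act_add X1 det_X1) (d.act_sq_one det_X hX2)
    (d.act_sq_one det_X' hX'2) (d.act_sq_one det_X1 hX12)
    (fun v => by rw [← d.act_mul _ _ det_X det_X', hc1, d.act_mul _ _ det_X' det_X])
    (fun v => by rw [← d.act_mul _ _ det_X det_X1, hc2, d.act_mul _ _ det_X1 det_X])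
    (fun v => by
      rw [← d.act_mul _ _ det_X' det_X1, hc3, d.act_mul _ _ det_X (det_mul_one det_X1 det_X'),
        d.act_mul _ _ det_X1 det_X'])
    hv
  refine ⟨a, ha0, h1, h2, h3, ?_⟩
  rcases fix_D8 (d.sq a) (by rw [← d.sq_act X det_X, h1]) (by rw [← d.sq_act X' det_X', h2])
    (by rw [← d.sq_act X1 det_X1, h3]) with e | e
  · exact absurd e (d.sq_ne a ha0)
  · exact e

theorem B_pair {a : V} (hX : d.act X a = a) (hX1 : d.act X1 a = a) (hsq : d.sq a = e1) :
    d.B a (d.act P a) = 0 := by
  obtain ⟨-, -, hPX, hPX1, -, -, -, -, hPP, -⟩ := rel_eqs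
  have fX : d.act X (d.act P a) = d.act P a := by
    rw [← d.act_mul _ _ det_X det_P, ← hPX1, d.act_mul _ _ det_P det_X1, hX1]
  have fX1 : d.act X1 (d.act P a) = d.act P a := by
    rw [← d.act_mul _ _ det_X1 det_P, ← hPX, d.act_mul _ _ det_P det_X, hX]
  have h1 : X *ᵥ d.B a (d.act P a) = d.B a (d.act P a) := by rw [← d.B_act det_X, hX, fX]
  have h2 : X1 *ᵥ d.B a (d.act P a) = d.B a (d.act P a) := by rw [← d.B_act det_X1, hX1, fX1]
  have h3 : P *ᵥ d.B a (d.act P a) = d.B a (d.act P a) := by
    rw [← d.B_act det_P, d.act_sq_one det_P hPP, B_comm]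
  rcases fix_axis _ h1 h2 h3 with e | e
  · exact e
  · exfalso
    obtain ⟨-, -, hne, -, hP1, -, -, -, hz⟩ := vec_eqs
    have hs : d.sq (a + d.act P a) = 0 := by
      have : d.sq (a + d.act P a) = d.B a (d.act P a) + (d.sq a + d.sq (d.act P a)) := by
        simp only [B]
        generalize d.sq (a + d.act P a) = p
        generalize d.sq a = q
        generalize d.sq (d.act P a) = r
        calc p = p + ((q + r) + (q + r)) := by rw [two_vec, add_zero]
          _ = _ := by abel
      rw [this, e, d.sq_act P det_P, hsq, hP1, hz]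
    have h0 : a + d.act P a = 0 := by
      by_contra hh; exact d.sq_ne _ hh hs
    have he : d.act P a = a := by
      calc d.act P a = a + (a + d.act P a) := by rw [← add_assoc, d.two, zero_add]
        _ = a := by rw [h0, add_zero]
    have := congrArg d.sq he
    rw [d.sq_act P det_P, hsq, hP1] at this
    exact hne this.symm

theorem fixed_stab {a : V} (hX : d.act X a = a) (hX' : d.act X' a = a) (hX1 : d.act X1 a = a)
    (hS : d.act S a = a) {M : M3} (hM : M.det = 1) (hMe : M *ᵥ e1 = e1) : d.act M a = a := by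
  have key : ∀ w : M3, w.det = 1 ∧ d.act w a = a →
      ∀ g : M3, g.det = 1 ∧ d.act g a = a → (g * w).det = 1 ∧ d.act (g * w) a = a :=
    fun w hw g hg => ⟨det_mul_one hg.1 hw.1, by rw [d.act_mul g w hg.1 hw.1, hw.2, hg.2]⟩
  have gX : X.det = 1 ∧ d.act X a = a := ⟨det_X, hX⟩
  have gX' : X'.det = 1 ∧ d.act X' a = a := ⟨det_X', hX'⟩
  have g1 : X1.det = 1 ∧ d.act X1 a = a := ⟨det_X1, hX1⟩
  have gS : S.det = 1 ∧ d.act S a = a := ⟨det_S, hS⟩
  have g0 : (1 : M3).det = 1 ∧ d.act 1 a = a := ⟨det_one, d.act_one a⟩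
  have hw : ∀ w ∈ ([1, X1, S, X1 * S, S * X1, X1 * S * X1] : List M3), w.det = 1 ∧ d.act w a = a := by
    intro w hw
    simp only [List.mem_cons, List.mem_nil_iff, or_false] at hw
    rcases hw with rfl | rfl | rfl | rfl | rfl | rfl
    exacts [g0, g1, gS, key _ gS _ g1, key _ g1 _ gS, key _ g1 _ (key _ gS _ g1)]
  have h := mem_stabWords M hM hMe
  simp only [stabWords, List.mem_flatMap] at h
  obtain ⟨w, hw1, hMw⟩ := h
  simp only [List.mem_cons, List.mem_nil_iff, or_false] at hMw
  have hw2 := hw w hw1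
  rcases hMw with e | e | e | e <;> rw [e]
  exacts [hw2.2, (key _ hw2 _ gX).2, (key _ hw2 _ gX').2, (key _ hw2 _ (key _ gX' _ gX)).2]

/-- An equivariant section of `sq` on which the polar form vanishes. -/
theorem exists_section (h0 : ∃ v : V, v ≠ 0) :
    ∃ fam : V3 → V, (∀ u, d.sq (fam u) = u) ∧ (∀ u w, fam (u + w) = fam u + fam w) ∧
      (∀ M : M3, M.det = 1 → ∀ u, d.act M (fam u) = fam (M *ᵥ u)) ∧
      (∀ u w, d.B (fam u) (fam w) = 0) := by
  classical
  obtain ⟨a, ha0, hX, hX', hX1, hsq⟩ := d.exists_flag h0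
  obtain ⟨hSX, hSX', -, hPX1, hPX', hY, hY2, hSS, hPP, hX'2, -⟩ := rel_eqs
  obtain ⟨he1, he2, hne, -, hP1, hX'e2, hS1, hX'1, -⟩ := vec_eqs
  by_cases hS : d.act S a = a
  · choose Mof hMof using fun u : V3 => fun h : u ≠ 0 => exists_first u h
    let fam : V3 → V := fun u => if h : u = 0 then 0 else d.act (Mof u h) a
    have hfam : ∀ M : M3, M.det = 1 → fam (M *ᵥ e1) = d.act M a := by
      intro M hM
      have hne0 : M *ᵥ e1 ≠ 0 := fun e => he1 <| by
        have h := congrArg (M.adjugate *ᵥ ·) e
        simpa [mulVec_mulVec, adj_mul hM] using h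
      simp only [fam, dif_neg hne0]
      obtain ⟨hN, hNe⟩ := hMof _ hne0
      set N := Mof (M *ᵥ e1) hne0
      have hst : d.act (M.adjugate * N) a = a := d.fixed_stab hX hX' hX1 hS (det_mul_one (det_adj hM) hN)
        (by rw [← mulVec_mulVec, hNe, mulVec_mulVec, adj_mul hM, one_mulVec])
      calc d.act N a = d.act (M * (M.adjugate * N)) a := by
            rw [← mul_assoc, mul_adjugate, hM, one_smul, one_mul]
        _ = d.act M a := by rw [d.act_mul _ _ hM (det_mul_one (det_adj hM) hN), hst]
    have hsqf : ∀ u, d.sq (fam u) = u := by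
      intro u
      by_cases hu : u = 0
      · subst hu; simp only [fam, dif_pos rfl, d.sq_zero]
      · obtain ⟨M, hM, rfl⟩ := exists_first u hu
        rw [hfam M hM, d.sq_act M hM, hsq]
    have heq : ∀ M : M3, M.det = 1 → ∀ u, d.act M (fam u) = fam (M *ᵥ u) := by
      intro M hM u
      by_cases hu : u = 0
      · subst hu; simp only [mulVec_zero, fam, dif_pos rfl, d.act_zero hM]
      · obtain ⟨N, hN, rfl⟩ := exists_first u hu
        rw [hfam N hN, mulVec_mulVec, hfam _ (det_mul_one hM hN), d.act_mul M N hM hN]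
    have hB : ∀ u w, d.B (fam u) (fam w) = 0 := by
      intro u w
      by_cases hu : u = 0
      · subst hu; simp only [fam, dif_pos rfl, B, zero_add, d.sq_zero, add_zero, two_vec]
      by_cases hw : w = 0
      · subst hw; simp only [fam, dif_pos rfl, B, add_zero, d.sq_zero, two_vec]
      by_cases huw : u = w
      · subst huw; exact d.B_self _
      obtain ⟨M, hM, rfl, rfl⟩ := exists_pair u w hu hw huw
      rw [hfam M hM, ← heq M hM e2, d.B_act hM]
      have hfe : fam e2 = d.act P a := by rw [← hP1, hfam P det_P]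
      rw [hfe, d.B_pair hX hX1 hsq, mulVec_zero]
    refine ⟨fam, hsqf, ?_, heq, hB⟩
    intro u w
    have h1 : d.sq (fam u + fam w) = u + w := by
      have hh := hB u w
      simp only [B, hsqf] at hh
      calc d.sq (fam u + fam w) = d.sq (fam u + fam w) + ((u + w) + (u + w)) := by rw [two_vec, add_zero]
        _ = d.sq (fam u + fam w) + u + w + (u + w) := by abel
        _ = u + w := by rw [hh, zero_add]
    have h2 : d.sq (fam u + fam w + fam (u + w)) = 0 := by
      have h := d.B_add_left (fam u) (fam w) (fam (u + w))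
      rw [hB, hB, add_zero] at h
      simp only [B, h1, hsqf] at h
      rw [add_assoc, two_vec, add_zero] at h
      exact h
    have h3 : fam u + fam w + fam (u + w) = 0 := by
      by_contra hh; exact d.sq_ne _ hh h2
    calc fam (u + w) = fam u + fam w + (fam u + fam w + fam (u + w)) := by
          rw [← add_assoc, d.two, zero_add]
      _ = fam u + fam w := by rw [h3, add_zero]
  · exfalso
    set af := d.act P a with haf
    set ah := d.act X' af with hah
    set b := d.act S a with hb
    have hsqaf : d.sq af = e2 := by rw [haf, d.sq_act P det_P, hsq, hP1]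
    have hsqah : d.sq ah = e1 + e2 := by rw [hah, d.sq_act X' det_X', hsqaf, hX'e2]
    have b0 : d.B a af = 0 := d.B_pair hX hX1 hsq
    have b1 : d.B a ah = 0 := by
      rw [hah]; nth_rewrite 1 [← hX']
      rw [d.B_act det_X', b0, mulVec_zero]
    have hah' : ah = d.act Y2 a := by
      have h := d.act_mul Y2 (X' * P) det_Y2 (det_mul_one det_X' det_P) a
      rw [hY, hX', d.act_mul X' P det_X' det_P, ← haf, ← hah] at h
      calc ah = d.act Y2 (d.act Y2 ah) := (d.act_sq_one det_Y2 hY2 ah).symm
        _ = _ := by rw [← h]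
    have b2 : d.B af ah = 0 := by
      have h := d.B_act det_P a ah
      rw [b1, mulVec_zero] at h
      rwa [← haf, show d.act P ah = ah from ?_] at h
      rw [hah, haf, ← d.act_mul _ _ det_X' det_P, ← d.act_mul _ _ det_P (det_mul_one det_X' det_P),
        ← mul_assoc, hPX', mul_assoc, hPP, mul_one, ← hah', hah, haf, d.act_mul _ _ det_X' det_P]
    have hrel : ah = a + af := by
      have hs : d.sq (a + af + ah) = 0 := by
        have h := d.B_add_left a af ah
        rw [b1, b2, add_zero] at h
        have h' := b0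
        simp only [B, hsq, hsqaf, hsqah] at h h'
        have e : d.sq (a + af) = e1 + e2 := by
          calc d.sq (a + af) = d.sq (a + af) + ((e1 + e2) + (e1 + e2)) := by rw [two_vec, add_zero]
            _ = d.sq (a + af) + e1 + e2 + (e1 + e2) := by abel
            _ = e1 + e2 := by rw [h', zero_add]
        rw [e, add_assoc, two_vec, add_zero] at h
        exact h
      have h3 : a + af + ah = 0 := by
        by_contra hh; exact d.sq_ne _ hh hs
      calc ah = a + af + (a + af + ah) := by rw [← add_assoc, d.two, zero_add]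
        _ = a + af := by rw [h3, add_zero]
    have hbX : d.act X b = b := by
      rw [hb, ← d.act_mul _ _ det_X det_S, ← hSX', d.act_mul _ _ det_S det_X', hX']
    have hbX' : d.act X' b = b := by
      rw [hb, ← d.act_mul _ _ det_X' det_S, ← hSX, d.act_mul _ _ det_S det_X, hX]
    have hbsq : d.sq b = e1 := by rw [hb, d.sq_act S det_S, hsq, hS1]
    have bab : d.B a b = e1 := by
      have hne : a + b ≠ 0 := fun e => hS <| by
        calc b = a + (a + b) := by rw [← add_assoc, d.two, zero_add]
          _ = a := by rw [e, add_zero]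
      have h1 : X *ᵥ d.sq (a + b) = d.sq (a + b) := by
        rw [← d.sq_act X det_X, d.act_add X det_X, hX, hbX]
      have h2 : X' *ᵥ d.sq (a + b) = d.sq (a + b) := by
        rw [← d.sq_act X' det_X', d.act_add X' det_X', hX', hbX']
      rcases fix_centre _ h1 h2 with e | e
      · exact absurd e (d.sq_ne _ hne)
      · simp only [B, e, hsq, hbsq, two_vec, zero_add]
    set ag := d.act S af with hag
    have hbrel : b = ag + d.act X ag := by
      have h : d.act S ah = d.act X ag := by
        rw [hah, hag, ← d.act_mul _ _ det_S det_X', hSX', d.act_mul _ _ det_X det_S]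
      calc b = d.act S (af + ah) := by
            rw [hb, hrel, show af + (a + af) = a by rw [add_comm a af, ← add_assoc, d.two, zero_add]]
        _ = _ := by rw [d.act_add S det_S, h, hag]
    have hXaf : d.act X af = af := by
      rw [haf, ← d.act_mul _ _ det_X det_P, ← hPX1, d.act_mul _ _ det_P det_X1, hX1]
    have hβ : d.B af b = 0 ∨ d.B af b = e1 := by
      have h : d.B af b = d.B af ag + X *ᵥ d.B af ag := by
        rw [hbrel, d.B_add_right]
        conv_lhs => arg 2; rw [← hXaf]
        rw [d.B_act det_X]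
      rw [h]; exact add_X _
    have h1 : d.B ah b = e1 + d.B af b := by rw [hrel, d.B_add_left, bab]
    have h2 : d.B ah b = X' *ᵥ d.B af b := by rw [← d.B_act det_X', ← hah, hbX']
    have h3 : X' *ᵥ d.B af b = d.B af b := by
      rcases hβ with e | e <;> rw [e]
      · exact mulVec_zero _
      · exact hX'1
    rw [h2, h3] at h1
    apply he1
    calc e1 = e1 + d.B af b + d.B af b := by rw [add_assoc, two_vec, add_zero]
      _ = 0 := by rw [← h1, two_vec]

end Quad

end Cfsg.Agent.SEMain.Omega
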