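import Cfsg.Agent.Lib.Involutions.BaerSuzuki
import Cfsg.Agent.Lib.Involutions.Dihedral
import Cfsg.Agent.Lib.Involutions.StronglyEmbedded
import Cfsg.Agent.Lib.CharP.AxB
import Cfsg.Agent.Lib.FiniteGroup.FittingPow
import Mathlib.GroupTheory.Sylow

/-!
# A group of automorphisms of an elementary abelian 2-group with 2-groups as pair stabilisers

If it is two-fold transitive on the non-identity elements there are at most eight elements: otherwise it
contains transvections with every centre and two of them make an element of order three fixing two points.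
-/

set_option autoImplicit false
set_option linter.style.haveILetI false
set_option linter.unusedSectionVars false

namespace Cfsg.Agent.SEMain.Omega

open Subgroup

universe u

/-- A subgroup with more than two elements has a further non-trivial one. -/
theorem exists_ne_ne {M : Type u} [Group M] [Finite M] (K : Subgroup M) (h : 2 < Nat.card K) (a : M) :
    ∃ b ∈ K, b ≠ 1 ∧ b ≠ a := by
  by_contra hno
  push Not at hno
  have hsub : (K : Set M) ⊆ {1, a} := fun x hx => by
    by_cases hx1 : x = 1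
    · exact Or.inl hx1
    · exact Or.inr (hno x hx hx1)
  have h1 := Set.ncard_le_ncard hsub (Set.toFinite _)
  rw [← Nat.card_coe_set_eq] at h1
  have h2 : ({1, a} : Set M).ncard ≤ 2 :=
    (Set.ncard_insert_le _ _).trans (by rw [Set.ncard_singleton])
  change Nat.card K ≤ _ at h1
  omega

/-- An involution outside the largest normal 2-subgroup inverts a non-trivial element of odd order. -/
theorem exists_odd_inverted {M : Type u} [Group M] [Finite M] {s : M} (hs : orderOf s = 2)
    (hsQ : s ∉ Cfsg.pCore 2 M) : ∃ y : M, y ≠ 1 ∧ Odd (orderOf y) ∧ s * y * s⁻¹ = y⁻¹ := by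
  haveI : Fact (Nat.Prime 2) := ⟨Nat.prime_two⟩
  obtain ⟨g, hg⟩ : ∃ g : M, ¬ IsPGroup 2
      ↥(zpowers s ⊔ (zpowers s).map (MulAut.conj g).toMonoidHom) := by
    by_contra hcon
    push Not at hcon
    obtain ⟨N, hN, hNp, hsN⟩ := BaerSuzuki.baerSuzuki (zpowers s)
      (IsPGroup.of_card (n := 1) (by rw [Nat.card_zpowers, hs, pow_one])) hcon
    exact hsQ (AxB.le_pCore hN hNp (hsN (mem_zpowers s)))
  set b : M := g * s * g⁻¹ with hb_def
  have hb : orderOf b = 2 := (Invol.order_conj g s).trans hs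
  obtain ⟨r, hr, hr2, m, hm⟩ : ∃ r, r.Prime ∧ r ≠ 2 ∧ r ∣ orderOf (s * b) := by
    by_contra hcon
    push Not at hcon
    refine hg ?_
    rintro ⟨x, hx⟩
    have hle : zpowers s ⊔ (zpowers s).map (MulAut.conj g).toMonoidHom ≤ closure ({s, b} : Set M) := by
      refine sup_le (zpowers_le.2 (subset_closure (by simp))) ?_
      rw [MonoidHom.map_zpowers]
      exact zpowers_le.2 (subset_closure (by simp [hb_def]))
    obtain ⟨n, hn⟩ : ∃ n, orderOf (s * b) = 2 ^ n :=
      ⟨_, Nat.eq_prime_pow_of_unique_prime_dvd (orderOf_pos _).ne' fun {d} hd hdd => by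
        by_contra hne
        exact hcon d hd hne hdd⟩
    obtain ⟨i, e | e⟩ := Invol.mem_closure_pair hs hb (hle hx)
    · refine ⟨n, Subtype.ext ?_⟩
      push_cast
      rw [e, ← zpow_natCast, ← zpow_mul, mul_comm, zpow_mul, zpow_natCast, ← hn, pow_orderOf_eq_one,
        one_zpow]
    · refine ⟨1, Subtype.ext ?_⟩
      push_cast
      rw [pow_two, e, Invol.inverted_mul_invol hs (Invol.conj_mul hs hb) i]
  have hm0 : m ≠ 0 := by rintro rfl; rw [mul_zero] at hm; exact (orderOf_pos (s * b)).ne' hm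
  have hco : orderOf ((s * b) ^ m) = r := by
    rw [orderOf_pow' _ hm0, hm, Nat.gcd_eq_right (dvd_mul_left m r),
      Nat.mul_div_cancel _ (Nat.pos_of_ne_zero hm0)]
  exact ⟨(s * b) ^ m, fun e => hr.ne_one (by rw [← hco, e, orderOf_one]), hco ▸ hr.odd_of_ne_two hr2,
    Invol.conj_pow (Invol.conj_mul hs hb) m⟩

variable {W : Type u} [CommGroup W] [Finite W]

/-- `t` is a non-trivial transvection with centre `e`. -/
def IsTransvec (t : MulAut W) (e : W) : Prop := t e = e ∧ ∀ w, t w = w ∨ t w = w * e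

/-- The stabiliser of an element in a group of automorphisms. -/
def fixer (A : Subgroup (MulAut W)) (e : W) : Subgroup (MulAut W) where
  carrier := {g | g ∈ A ∧ g e = e}
  mul_mem' {f g} hf hg := ⟨mul_mem hf.1 hg.1, by rw [MulAut.mul_apply, hg.2, hf.2]⟩
  one_mem' := ⟨one_mem A, rfl⟩
  inv_mem' {f} hf := ⟨inv_mem hf.1, by
    nth_rw 1 [← hf.2]
    exact MulAut.inv_apply_self W f e⟩

variable (hsq : ∀ w : W, w * w = 1) (A : Subgroup (MulAut W))
  (htr : ∀ a b c d : W, a ≠ 1 → b ≠ 1 → c ≠ 1 → d ≠ 1 → a ≠ b → c ≠ d → ∃ g ∈ A, g a = c ∧ g b = d)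
  (hfix : ∀ g ∈ A, ∀ a b : W, a ≠ 1 → b ≠ 1 → a ≠ b → g a = a → g b = b → ∃ k : ℕ, g ^ 2 ^ k = 1)
  (h4 : 2 < Nat.card W)

include h4 in
theorem exists_other (a : W) : ∃ b : W, b ≠ 1 ∧ b ≠ a := by
  obtain ⟨b, -, hb⟩ := exists_ne_ne (⊤ : Subgroup W) (by rw [card_top]; exact h4) a
  exact ⟨b, hb⟩

include htr h4 in
theorem exists_map {c d : W} (hc : c ≠ 1) (hd : d ≠ 1) : ∃ g ∈ A, g c = d := by
  obtain ⟨c', hc', hcc'⟩ := exists_other h4 c
  obtain ⟨d', hd', hdd'⟩ := exists_other h4 d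
  obtain ⟨g, hg, h, -⟩ := htr c c' d d' hc hc' hd hd' (Ne.symm hcc') (Ne.symm hdd')
  exact ⟨g, hg, h⟩

include hsq htr h4 in
/-- Some involution of the group moves an element by the given amount. -/
theorem exists_invol_moving {e : W} (he : e ≠ 1) :
    ∃ x ∈ A, orderOf x = 2 ∧ x e = e ∧ ∃ w, w * x w = e := by
  obtain ⟨a, ha, -⟩ := exists_other h4 (1 : W)
  obtain ⟨b, hb, hba⟩ := exists_other h4 a
  obtain ⟨g, hg, hga, hgb⟩ := htr a b b a ha hb hb ha (Ne.symm hba) hba
  have heven : Even (Nat.card A) := by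
    by_contra hodd
    obtain ⟨k, hk⟩ := (Nat.not_even_iff_odd.1 hodd).of_dvd_nat (Subgroup.orderOf_dvd_natCard A hg)
    have h1 : ∀ n : ℕ, (g ^ (2 * n)) a = a := fun n => by
      induction n with
      | zero => rfl
      | succ n ih => rw [Nat.mul_succ, pow_add, MulAut.mul_apply, pow_two, MulAut.mul_apply, hga, hgb, ih]
    have h2 : (g ^ (2 * k + 1)) a = b := by rw [pow_succ', MulAut.mul_apply, h1, hga]
    rw [← hk, pow_orderOf_eq_one] at h2
    exact hba h2.symm
  obtain ⟨t, htA, ht⟩ := Invol.exists_invol heven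
  obtain ⟨w, hw⟩ : ∃ w, t w ≠ w := by
    by_contra hno
    push Not at hno
    rw [MulEquiv.ext (g := (1 : MulAut W)) hno, orderOf_one] at ht
    omega
  have hne : w * t w ≠ 1 := fun h => hw (mul_left_cancel (h.trans (hsq w).symm))
  obtain ⟨h, hh, hhe⟩ := exists_map A htr h4 hne he
  have e1 : (h * t * h⁻¹) (h w) = h (t w) := by
    rw [MulAut.mul_apply, MulAut.mul_apply, MulAut.inv_apply_self]
  refine ⟨h * t * h⁻¹, mul_mem (mul_mem hh htA) (inv_mem hh), (Invol.order_conj h t).trans ht, ?_, h w, ?_⟩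
  · rw [← hhe, MulAut.mul_apply, MulAut.mul_apply, MulAut.inv_apply_self, map_mul,
      show t (t w) = w by rw [← MulAut.mul_apply, Invol.mul_self ht]; rfl, mul_comm]
  · rw [e1, ← map_mul, hhe]

include hsq htr hfix h4 in
/-- Such an involution lies in the largest normal 2-subgroup of the stabiliser. -/
theorem mem_pCore_of_moving {e : W} (he : e ≠ 1) {x : MulAut W} (hx : x ∈ fixer A e) (hx2 : orderOf x = 2)
    {w : W} (hw : w * x w = e) : (⟨x, hx⟩ : fixer A e) ∈ Cfsg.pCore 2 (fixer A e) := by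
  classical
  by_contra hQ
  obtain ⟨⟨y, hy⟩, hy1, hyodd, hinv⟩ := exists_odd_inverted (by rw [Subgroup.orderOf_mk]; exact hx2) hQ
  rw [Subgroup.orderOf_mk] at hyodd
  have hinv' : x * y * x⁻¹ = y⁻¹ := congrArg Subtype.val hinv
  letI := Fintype.ofFinite (zpowers y)
  let N : W → W := fun v => ∏ g : zpowers y, (g : MulAut W) v
  have hmul : ∀ v v', N (v * v') = N v * N v' := fun v v' => by
    simp only [N, map_mul, Finset.prod_mul_distrib]
  have hyN : ∀ v, y (N v) = N v := fun v => by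
    simp only [N, map_prod]
    exact Fintype.prod_equiv (Equiv.mulLeft ⟨y, mem_zpowers y⟩) _ _ fun g => rfl
  have hxN : ∀ v, x (N v) = N (x v) := fun v => by
    simp only [N, map_prod]
    refine Fintype.prod_equiv (Equiv.inv _) _ _ fun g => ?_
    obtain ⟨k, hk⟩ := g.2
    have h1 : x * (g : MulAut W) = (g : MulAut W)⁻¹ * x := by
      rw [← hk]
      have h2 := Invol.conj_zpow hinv' k
      rw [zpow_neg] at h2
      exact mul_inv_eq_iff_eq_mul.1 h2
    exact DFunLike.congr_fun h1 v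
  have hNw : ∀ v, N v = 1 ∨ N v = e := by
    intro v
    by_contra hcon
    obtain ⟨h1, h2⟩ := not_or.1 hcon
    obtain ⟨k, hk⟩ := hfix y hy.1 e (N v) he h1 (Ne.symm h2) hy.2 (hyN v)
    refine hy1 (Subtype.ext (orderOf_eq_one_iff.1 ?_))
    obtain ⟨j, -, hj⟩ := (Nat.dvd_prime_pow Nat.prime_two).1 (orderOf_dvd_of_pow_eq_one hk)
    rcases Nat.eq_zero_or_pos j with rfl | hjp
    · exact hj
    · exact absurd (hj ▸ (Nat.even_pow.2 ⟨even_two, hjp.ne'⟩)) (Nat.not_even_iff_odd.2 hyodd)
  have hxN' : x (N w) = N w := by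
    rcases hNw w with h | h <;> rw [h]
    · exact map_one x
    · exact hx.2
  have h0 : N e = 1 := by rw [← hw, hmul, ← hxN, hxN', hsq]
  have h1 : N e = e := by
    have hc : ∀ g : zpowers y, (g : MulAut W) e = e := fun g =>
      ((zpowers_le.2 hy : zpowers y ≤ fixer A e) g.2).2
    simp only [N, hc, Finset.prod_const, Finset.card_univ, ← Nat.card_eq_fintype_card, Nat.card_zpowers]
    obtain ⟨k, hk⟩ := hyodd
    rw [hk, pow_succ, pow_mul, pow_two, hsq, one_pow, one_mul]
  exact he (h1.symm.trans h0)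

include hsq htr hfix h4 in
/-- For every centre there is a group of transvections fixing only the centre. -/
theorem exists_transvecs {e : W} (he : e ≠ 1) :
    ∀ w : W, w ≠ 1 → w ≠ e → ∃ t ∈ A, IsTransvec t e ∧ t w ≠ w := by
  classical
  haveI : Fact (Nat.Prime 2) := ⟨Nat.prime_two⟩
  obtain ⟨x, hxA, hx2, hxe, w₀, hw₀⟩ := exists_invol_moving hsq A htr h4 he
  set Q := Cfsg.pCore 2 (fixer A e) with hQ
  have hxQ : (⟨x, hxA, hxe⟩ : fixer A e) ∈ Q :=
    mem_pCore_of_moving hsq A htr hfix h4 he ⟨hxA, hxe⟩ hx2 hw₀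
  haveI hQn : Q.Normal := FiniteGroup.pCore_normal 2
  have hQ2 : IsPGroup 2 Q := FiniteGroup.pCore_isPGroup 2
  set D := zpowers e with hD
  have hDmem : ∀ {d : W}, d ∈ D → d = 1 ∨ d = e := fun {d} hd => by
    obtain ⟨k, rfl⟩ := mem_zpowers_iff.1 hd
    rcases Int.even_or_odd k with ⟨j, rfl⟩ | ⟨j, rfl⟩
    · exact Or.inl (by rw [zpow_add, hsq])
    · exact Or.inr (by rw [zpow_add, zpow_one, two_mul, zpow_add, hsq, one_mul])
  have hstab : ∀ q : fixer A e, ∀ d ∈ D, (q : MulAut W) d ∈ D := fun q d hd => by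
    rcases hDmem hd with rfl | rfl
    · rw [map_one]; exact one_mem D
    · rw [q.2.2]; exact hd
  letI : MulAction Q (W ⧸ D) :=
    { smul := fun q c => Quotient.liftOn' c (fun w => (((q : fixer A e) : MulAut W) w : W ⧸ D))
        fun a b hab => by
          rw [QuotientGroup.leftRel_apply] at hab
          rw [QuotientGroup.eq, ← map_inv, ← map_mul]
          exact hstab _ _ hab
      one_smul := fun c => by
        induction c using QuotientGroup.induction_on with
        | _ w => rfl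
      mul_smul := fun q q' c => by
        induction c using QuotientGroup.induction_on with
        | _ w => rfl }
  have hW : IsPGroup 2 W := fun w => ⟨1, by rw [pow_one, pow_two, hsq]⟩
  have hDcard : Nat.card D = 2 := by
    rw [hD, Nat.card_zpowers]; exact orderOf_eq_prime (by rw [pow_two, hsq]) he
  have hcard := card_eq_card_quotient_mul_card_subgroup D
  rw [hDcard] at hcard
  have hdvd : 2 ∣ Nat.card (W ⧸ D) := by
    rcases (hW.to_quotient D).card_eq_or_dvd with h | h
    · omega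
    · exact h
  have h1 : ((1 : W) : W ⧸ D) ∈ MulAction.fixedPoints Q (W ⧸ D) := fun q =>
    congrArg (fun z : W => (z : W ⧸ D)) (map_one ((q : fixer A e) : MulAut W))
  obtain ⟨c, hc, hc1⟩ := hQ2.exists_fixed_point_of_prime_dvd_card_of_fixed_point (W ⧸ D) hdvd h1
  induction c using QuotientGroup.induction_on with
  | _ w₁ =>
    have hw₁ : w₁ ∉ D := fun h => hc1 (by rw [QuotientGroup.eq]; simpa using h)
    have hw₁1 : w₁ ≠ 1 := fun h => hw₁ (h ▸ one_mem D)
    have hw₁e : w₁ ≠ e := fun h => hw₁ (h ▸ mem_zpowers e)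
    have htv : ∀ q ∈ Q, ∀ v : W, (q : MulAut W) v = v ∨ (q : MulAut W) v = v * e := by
      intro q hq v
      by_cases hv : v = 1 ∨ v = e
      · exact Or.inl (by rcases hv with rfl | rfl; exacts [map_one _, q.2.2])
      obtain ⟨hv1, hve⟩ := not_or.1 hv
      obtain ⟨g, hg, hge, hgw⟩ := htr e w₁ e v he hw₁1 he hv1 (Ne.symm hw₁e) (Ne.symm hve)
      let g' : fixer A e := ⟨g, hg, hge⟩
      have hq' : g'⁻¹ * q * g' ∈ Q := by
        have := hQn.conj_mem q hq g'⁻¹
        rwa [inv_inv] at this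
      have h2 := hc ⟨_, hq'⟩
      change ((((g'⁻¹ * q * g' : fixer A e)) : MulAut W) w₁ : W ⧸ D) = (w₁ : W ⧸ D) at h2
      rw [QuotientGroup.eq] at h2
      have h3 : ((g'⁻¹ * q * g' : fixer A e) : MulAut W) w₁ = g⁻¹ ((q : MulAut W) (g w₁)) := rfl
      rw [h3, hgw] at h2
      have h4' : (q : MulAut W) v = g (((g'⁻¹ * q * g' : fixer A e) : MulAut W) w₁) := by
        rw [h3, hgw, MulAut.apply_inv_self]
      rcases hDmem h2 with h5 | h5
      · left
        rw [inv_mul_eq_one] at h5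
        rw [h4', h3, hgw, h5, hgw]
      · right
        rw [inv_mul_eq_iff_eq_mul] at h5
        rw [h4', h3, hgw, ← mul_one (g⁻¹ _), ← hsq e, ← mul_assoc, ← h5, map_mul, hgw, hge]
    intro w hw hwe
    by_contra hno
    push Not at hno
    refine orderOf_eq_one_iff.not.1 (by omega : orderOf x ≠ 1) (MulEquiv.ext fun v => ?_)
    by_cases hv : v = 1 ∨ v = e
    · rcases hv with rfl | rfl
      · exact map_one x
      · exact hxe
    obtain ⟨hv1, hve⟩ := not_or.1 hv
    obtain ⟨g, hg, hge, hgw⟩ := htr e w e v he hw he hv1 (Ne.symm hwe) (Ne.symm hve)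
    let g' : fixer A e := ⟨g, hg, hge⟩
    have hq' : g'⁻¹ * ⟨x, hxA, hxe⟩ * g' ∈ Q := by
      have := hQn.conj_mem _ hxQ g'⁻¹
      rwa [inv_inv] at this
    have h2 := hno _ (SetLike.coe_mem (g'⁻¹ * ⟨x, hxA, hxe⟩ * g' : fixer A e)).1
      ⟨(SetLike.coe_mem (g'⁻¹ * ⟨x, hxA, hxe⟩ * g' : fixer A e)).2, htv _ hq'⟩
    change g⁻¹ (x (g w)) = w at h2
    rw [hgw] at h2
    rw [← MulAut.apply_inv_self W g (x v), h2, hgw]
    rfl

include hsq htr hfix h4 in
/-- With 2-groups as pair stabilisers there are at most eight elements. -/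
theorem card_lt_sixteen : Nat.card W < 16 := by
  by_contra h16
  push Not at h16
  obtain ⟨u, hu, -⟩ := exists_other h4 (1 : W)
  obtain ⟨w', hw', hw'u⟩ := exists_other h4 u
  obtain ⟨t₁, ht₁A, ht₁, ht₁w⟩ := exists_transvecs hsq A htr hfix h4 hu w' hw' hw'u
  obtain ⟨v, hv⟩ : ∃ v, t₁ v = v * u := ⟨w', (ht₁.2 w').resolve_left ht₁w⟩
  have hv1 : v ≠ 1 := fun e => hu (by rw [e, map_one, one_mul] at hv; exact hv.symm)
  have huv : u ≠ v := fun e => by rw [← e, ht₁.1, hsq] at hv; exact hu hv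
  obtain ⟨t₂, ht₂A, ht₂, ht₂u⟩ := exists_transvecs hsq A htr hfix h4 hv1 u hu huv
  have hu2 : t₂ u = u * v := (ht₂.2 u).resolve_left ht₂u
  set g := t₁ * t₂ with hg
  have hgu : g u = v := by
    rw [hg, MulAut.mul_apply, hu2, map_mul, ht₁.1, hv, mul_comm v u, ← mul_assoc, hsq, one_mul]
  have hgv : g v = v * u := by rw [hg, MulAut.mul_apply, ht₂.1, hv]
  have hgvu : g (v * u) = u := by rw [map_mul, hgv, hgu, mul_comm v u, mul_assoc, hsq, mul_one]
  have hj : ∀ j : ℕ, (g ^ (3 * j)) u = u ∧ (g ^ (3 * j + 1)) u = v ∧ (g ^ (3 * j + 2)) u = v * u := by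
    have h0 : ∀ n, (g ^ (n + 1)) u = g ((g ^ n) u) := fun n => by rw [pow_succ', MulAut.mul_apply]
    intro j
    induction j with
    | zero => exact ⟨rfl, by rw [mul_zero, zero_add, pow_one, hgu], by rw [mul_zero, zero_add, pow_two,
        MulAut.mul_apply, hgu, hgv]⟩
    | succ j ih =>
      have a := ih.2.2
      have b : (g ^ (3 * (j + 1))) u = u := by rw [show 3 * (j + 1) = 3 * j + 2 + 1 by ring, h0, a, hgvu]
      have c : (g ^ (3 * (j + 1) + 1)) u = v := by rw [h0, b, hgu]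
      exact ⟨b, c, by rw [show 3 * (j + 1) + 2 = 3 * (j + 1) + 1 + 1 by ring, h0, c, hgv]⟩
  -- the common fixed points
  let f : W →* W × W :=
    { toFun := fun w => (w * t₁ w, w * t₂ w)
      map_one' := by simp
      map_mul' := fun a b => by simp only [map_mul, Prod.mk_mul_mk, mul_mul_mul_comm] }
  have hker : 2 < Nat.card f.ker := by
    have h1 := card_eq_card_quotient_mul_card_subgroup f.ker
    rw [Nat.card_congr (QuotientGroup.quotientKerEquivRange f).toEquiv] at h1
    have h2 : Nat.card f.range ≤ 4 := by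
      have hs : (f.range : Set (W × W)) ⊆ ({1, u} : Set W) ×ˢ ({1, v} : Set W) := by
        rintro _ ⟨w, rfl⟩
        refine ⟨?_, ?_⟩
        · rcases ht₁.2 w with h | h
          · exact Or.inl (show w * t₁ w = 1 by rw [h, hsq])
          · exact Or.inr (show w * t₁ w = u by rw [h, ← mul_assoc, hsq, one_mul])
        · rcases ht₂.2 w with h | h
          · exact Or.inl (show w * t₂ w = 1 by rw [h, hsq])
          · exact Or.inr (show w * t₂ w = v by rw [h, ← mul_assoc, hsq, one_mul])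
      rw [← SetLike.coe_sort_coe, Nat.card_coe_set_eq]
      refine le_trans (Set.ncard_le_ncard hs (Set.toFinite _)) ?_
      rw [Set.ncard_prod]
      exact le_trans (Nat.mul_le_mul (Set.ncard_insert_le (1 : W) {u}) (Set.ncard_insert_le (1 : W) {v}))
        (by rw [Set.ncard_singleton, Set.ncard_singleton])
    by_contra hle
    have h3 : Nat.card f.range * Nat.card f.ker ≤ 4 * 2 := Nat.mul_le_mul h2 (by omega)
    omega
  obtain ⟨a, ha, ha1, -⟩ := exists_ne_ne f.ker hker 1
  obtain ⟨b, hb, hb1, hba⟩ := exists_ne_ne f.ker hker a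
  have hgfix : ∀ w ∈ f.ker, g w = w := by
    intro w hw
    have h1 : w * t₁ w = 1 := congrArg Prod.fst hw
    have h2 : w * t₂ w = 1 := congrArg Prod.snd hw
    rw [hg, MulAut.mul_apply, mul_left_cancel (h2.trans (hsq w).symm),
      mul_left_cancel (h1.trans (hsq w).symm)]
  obtain ⟨k, hk⟩ := hfix g (mul_mem ht₁A ht₂A) a b ha1 hb1 (Ne.symm hba) (hgfix a ha) (hgfix b hb)
  have h3 : ¬ 3 ∣ 2 ^ k := fun h => by
    have := Nat.prime_three.dvd_of_dvd_pow h
    norm_num at this
  obtain ⟨-, e1, e2⟩ := hj (2 ^ k / 3)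
  have e : (g ^ 2 ^ k) u = u := by rw [hk]; rfl
  have hmod : 2 ^ k = 3 * (2 ^ k / 3) + 1 ∨ 2 ^ k = 3 * (2 ^ k / 3) + 2 := by omega
  rcases hmod with h | h <;> rw [h] at e
  · exact huv (e.symm.trans e1)
  · exact hv1 (mul_eq_right.1 (e2.symm.trans e))

end Cfsg.Agent.SEMain.Omega
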