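import Cfsg.Agent.Lib.SEMain.Omega.Abelian
import Mathlib.LinearAlgebra.Determinant
import Mathlib.LinearAlgebra.Matrix.ToLin

/-!
In the setting of `Three`, if moreover every involution of the group lies in `W`, there is a contradiction:
an element over an element of order 4 of `GL(3,2)` gives an involution outside `W`.
-/

set_option autoImplicit false
set_option linter.unusedSectionVars false
set_option linter.style.haveILetI false

namespace Cfsg.Agent.SEMain.Omega

open Matrix Mat Module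

universe u

namespace Mat

/-- An element of order 4. -/
def Y : M3 := X1 * X'

theorem Y_eqs : Y = X1 * (C.adjugate * X1 * C.adjugate.adjugate) ∧ C.adjugate.det = 1 ∧
    Y * Y * Y * Y = 1 ∧ Y * Y ≠ 1 := by decide +kernel

theorem Y_vec : Y *ᵥ e3 = e2 + e3 ∧ Y *ᵥ (e2 + e3) = e1 + e3 ∧
    ∀ a b c : ZMod 2, a.val • e3 + b.val • (e2 + e3) + c.val • (e1 + e3) = 0 → a = 0 ∧ b = 0 ∧ c = 0 := by
  decide +kernel

theorem Y_span : ∀ a : V3, ∃ s : V3, a = s 0 • e3 + s 1 • (e2 + e3) + s 2 • (e1 + e3) := by decide +kernel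

end Mat

variable {X : Type u} [Group X] [Finite X]

theorem Three.false_of_invol (d : Three X) (hK : ∀ k, d.ρ k = 1 → (∃ j : ℕ, k ^ 2 ^ j = 1) → k ∈ d.Q)
    (hinv : ∀ x : X, orderOf x = 2 → x ∈ d.W) : False := by
  classical
  obtain ⟨hcomm, r, hexp, hroot⟩ := d.homocyclic
  obtain ⟨hY, hCdet, hY4, hY2⟩ := Y_eqs
  obtain ⟨hYe3, hYYe3, hYind⟩ := Y_vec
  set N := 2 ^ (r + 1) with hN
  haveI : NeZero N := ⟨by positivity⟩
  haveI : IsMulCommutative d.Q := ⟨⟨fun a b => Subtype.ext (hcomm a.1 a.2 b.1 b.2)⟩⟩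
  letI : CommGroup d.Q := { (inferInstance : Group d.Q) with mul_comm := fun a b => mul_comm' a b }
  haveI : Module (ZMod N) (Additive d.Q) := AddCommGroup.zmodModule fun q => by
    apply Additive.toMul.injective
    exact Subtype.ext (by simpa using hexp q.toMul.1 q.toMul.2)
  haveI := d.nQ
  let cj : X → (d.Q →* d.Q) := fun x =>
    { toFun := fun q => ⟨x * q.1 * x⁻¹, d.nQ.conj_mem _ q.2 x⟩
      map_one' := Subtype.ext (by show x * 1 * x⁻¹ = 1; group)
      map_mul' := fun a b => Subtype.ext (by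
        show x * (a.1 * b.1) * x⁻¹ = (x * a.1 * x⁻¹) * (x * b.1 * x⁻¹); group) }
  let L : X → (Additive d.Q →ₗ[ZMod N] Additive d.Q) := fun x =>
    (MonoidHom.toAdditive (cj x)).toZModLinearMap N
  have hL : ∀ x (q : Additive d.Q), ((L x q).toMul : X) = x * (q.toMul : X) * x⁻¹ := fun x q => rfl
  have hLmul : ∀ x y, L (x * y) = L x * L y := fun x y => LinearMap.ext fun q =>
    Additive.toMul.injective <| Subtype.ext <| by
      show x * y * _ * (x * y)⁻¹ = x * (y * _ * y⁻¹) * x⁻¹; group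
  have hLker : ∀ x, d.ρ x = 1 → L x = 1 := fun x hx => LinearMap.ext fun q =>
    Additive.toMul.injective <| Subtype.ext <| by
      obtain ⟨p, hp, h⟩ := d.inner x hx
      show x * (q.toMul : X) * x⁻¹ = (q.toMul : X)
      rw [h _ q.toMul.2, hcomm p hp _ q.toMul.2, mul_inv_cancel_right]
  obtain ⟨a, ha⟩ := d.surj X1 det_X1
  obtain ⟨c, hc⟩ := d.surj _ hCdet
  set y0 := a * (c * a * c⁻¹) with hy0
  have hρy0 : d.ρ y0 = Y := by rw [hy0, d.ρ_mul, d.ρ_mul, d.ρ_mul, d.ρ_inv, hc, ha, hY]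
  obtain ⟨j, o, ho, hjo⟩ := Nat.exists_eq_pow_mul_and_not_dvd (orderOf_pos y0).ne' 2 (by norm_num)
  set y := y0 ^ (o * o) with hy
  have hρy : d.ρ y = Y := by
    let ρh : X →* M3 := { toFun := d.ρ, map_one' := d.ρ_one, map_mul' := d.ρ_mul }
    show ρh y = Y
    have h4 : o * o % 4 = 1 := by
      rw [Nat.mul_mod]
      rcases (by omega : o % 4 = 1 ∨ o % 4 = 3) with e | e <;> rw [e]
    have hY4' : Y ^ 4 = 1 := by simpa [pow_succ] using hY4
    rw [hy, map_pow, show ρh y0 = Y from hρy0, ← Nat.div_add_mod (o * o) 4, h4, pow_add, pow_mul, hY4',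
      one_pow, one_mul, pow_one]
  have hy2 : y ^ 2 ^ j = 1 := by
    rw [hy, ← pow_mul, show o * o * 2 ^ j = orderOf y0 * o by rw [hjo]; ring, pow_mul, pow_orderOf_eq_one,
      one_pow]
  obtain ⟨m, hmQ, hm⟩ := hroot _ (d.v_mem e3)
  let g0 : Additive d.Q := Additive.ofMul ⟨m, hmQ⟩
  let g : Fin 3 → Additive d.Q := ![g0, L y g0, L y (L y g0)]
  let φ : (Fin 3 → ZMod N) →ₗ[ZMod N] Additive d.Q := Fintype.linearCombination (ZMod N) g
  have hφ : ∀ k, φ k = k 0 • g0 + k 1 • L y g0 + k 2 • L y (L y g0) := fun k => by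
    simp [φ, g, Fintype.linearCombination_apply, Fin.sum_univ_three]
  have hvnsmul : ∀ (n : ℕ) (b : V3), d.v (n • b) = d.v b ^ n := fun n b => by
    induction n with
    | zero => rw [zero_smul, pow_zero, d.v_zero]
    | succ n ih => rw [add_smul, one_smul, d.v_add, ih, pow_succ]
  have hhigh : ∀ e : Fin 3 → ZMod 2, ((φ fun i => ((2 ^ r * (e i).val : ℕ) : ZMod N)).toMul : X) =
      d.v ((e 0).val • e3 + (e 1).val • (e2 + e3) + (e 2).val • (e1 + e3)) := by
    intro e
    rw [hφ]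
    simp only [Nat.cast_smul_eq_nsmul]
    simp only [toMul_add, toMul_nsmul, Subgroup.coe_mul, Subgroup.coe_pow, hL, pow_mul, conj_pow,
      show ((g0.toMul : X)) = m from rfl, hm, ← hvnsmul, d.spec, hρy, hYe3, hYYe3, ← d.v_add]
  have hinj : Function.Injective φ := by
    rw [injective_iff_map_eq_zero]
    intro k hk
    by_contra hk0
    obtain ⟨i, hi, hi'⟩ : ∃ i, (2 ^ i : ℕ) • k ≠ 0 ∧ (2 ^ (i + 1) : ℕ) • k = 0 := by
      have hall : ∀ n, (2 ^ n : ℕ) • k = 0 → ∃ i, (2 ^ i : ℕ) • k ≠ 0 ∧ (2 ^ (i + 1) : ℕ) • k = 0 := by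
        intro n
        induction n with
        | zero => intro h; exact absurd (by simpa using h) hk0
        | succ n ih =>
          intro h
          by_cases h' : (2 ^ n : ℕ) • k = 0
          · exact ih h'
          · exact ⟨n, h', h⟩
      refine hall (r + 1) (funext fun l => ?_)
      rw [Pi.smul_apply, nsmul_eq_mul, ← hN, ZMod.natCast_self, zero_mul, Pi.zero_apply]
    set k' := (2 ^ i : ℕ) • k with hk'
    have hd : ∀ l, k' l + k' l = 0 := fun l => by
      have h := congrFun hi' l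
      rwa [pow_succ, mul_nsmul', two_nsmul, smul_add, Pi.add_apply, Pi.zero_apply, ← hk'] at h
    have hform : ∀ l, ∃ e : ZMod 2, k' l = ((2 ^ r * e.val : ℕ) : ZMod N) := fun l => by
      have h := hd l
      rw [← ZMod.natCast_zmod_val (k' l), ← Nat.cast_add, ZMod.natCast_eq_zero_iff] at h
      obtain ⟨t, ht⟩ := h
      have hlt := ZMod.val_lt (k' l)
      have hN2 : N = 2 * 2 ^ r := by rw [hN, pow_succ]; ring
      have ht' : (k' l).val = 2 ^ r * t := by
        have e : 2 * (k' l).val = 2 * (2 ^ r * t) :=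
          calc 2 * (k' l).val = (k' l).val + (k' l).val := two_mul _
            _ = N * t := ht
            _ = 2 * (2 ^ r * t) := by rw [← mul_assoc, ← hN2]
        omega
      refine ⟨(t : ZMod 2), ?_⟩
      have htlt : t < 2 := by
        by_contra hge
        have : 2 ^ r * 2 ≤ 2 ^ r * t := Nat.mul_le_mul_left _ (by omega)
        omega
      rw [ZMod.val_natCast, Nat.mod_eq_of_lt htlt, ← ht', ZMod.natCast_zmod_val]
    choose e he using hform
    have h0 : ((φ k').toMul : X) = 1 := by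
      rw [hk', map_nsmul, hk, smul_zero]; rfl
    rw [show k' = fun l => ((2 ^ r * (e l).val : ℕ) : ZMod N) from funext he, hhigh] at h0
    obtain ⟨z0, z1, z2⟩ := hYind _ _ _ (d.v_inj _ _ (h0.trans d.v_zero.symm))
    refine hi (funext fun l => ?_)
    rw [he l]
    fin_cases l <;> simp [z0, z1, z2]
  have hsurj : ∀ n ≤ r + 1, ∀ q : Additive d.Q, (2 ^ n : ℕ) • q = 0 → ∃ k, φ k = q := by
    intro n
    induction n with
    | zero => intro _ q h; exact ⟨0, by rw [map_zero]; simpa using h.symm⟩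
    | succ n ih =>
      intro hn q h
      set p := (2 ^ n : ℕ) • q with hp
      have hpW : (p.toMul : X) ∈ d.W := d.inv _ p.toMul.2 (by
        have h' : p + p = 0 := by rw [hp, ← add_smul, ← two_mul, ← pow_succ']; exact h
        exact congrArg (fun z : Additive d.Q => (z.toMul : X)) h')
      obtain ⟨b, hb⟩ := d.v_surj _ hpW
      obtain ⟨e, rfl⟩ := Y_span b
      let k : Fin 3 → ZMod N := fun l => ((2 ^ (r - n) * (e l).val : ℕ) : ZMod N)
      have hpk : (2 ^ n : ℕ) • φ k = p := by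
        apply Additive.toMul.injective
        apply Subtype.ext
        rw [← map_nsmul, ← hb]
        have hk : (2 ^ n : ℕ) • k = fun l => ((2 ^ r * (e l).val : ℕ) : ZMod N) := funext fun l => by
          simp only [k, Pi.smul_apply, nsmul_eq_mul, ← Nat.cast_mul, ← mul_assoc, ← pow_add,
            show n + (r - n) = r by omega]
        rw [hk, hhigh]
        have hsmul : ∀ (z : ZMod 2) (w : V3), z • w = z.val • w := by decide +kernel
        rw [hsmul, hsmul, hsmul]
      obtain ⟨k1, hk1⟩ := ih (by omega) (q - φ k) (by rw [smul_sub, hpk, hp, sub_self])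
      exact ⟨k + k1, by rw [map_add, hk1, add_sub_cancel]⟩
  have hbij : Function.Bijective φ := ⟨hinj, fun q => hsurj (r + 1) le_rfl q (by
    apply Additive.toMul.injective
    exact Subtype.ext (by simpa using hexp q.toMul.1 q.toMul.2))⟩
  let eq : (Fin 3 → ZMod N) ≃ₗ[ZMod N] Additive d.Q := LinearEquiv.ofBijective φ hbij
  let B : Basis (Fin 3) (ZMod N) (Additive d.Q) := Basis.ofEquivFun eq.symm
  have hB : ∀ l, B l = g l := fun l => by
    rw [Basis.coe_ofEquivFun]
    show φ (Pi.single l 1) = g l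
    simp [φ, Fintype.linearCombination_apply_single]
  -- the determinant of `y`
  have hdet_one : LinearMap.det (L y) = 1 := by
    have h1 : L 1 = 1 := hLker 1 d.ρ_one
    have hcc : LinearMap.det (L c) * LinearMap.det (L c⁻¹) = 1 := by
      rw [← map_mul, ← hLmul, mul_inv_cancel, h1, map_one]
    have haa : LinearMap.det (L a) * LinearMap.det (L a) = 1 := by
      rw [← map_mul, ← hLmul, hLker (a * a) (by rw [d.ρ_mul, ha]; decide +kernel), map_one]
    have h0 : LinearMap.det (L y0) = 1 := by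
      rw [hy0, hLmul, hLmul, hLmul, map_mul, map_mul, map_mul]
      calc LinearMap.det (L a) * (LinearMap.det (L c) * LinearMap.det (L a) * LinearMap.det (L c⁻¹))
          = LinearMap.det (L a) * LinearMap.det (L a) * (LinearMap.det (L c) * LinearMap.det (L c⁻¹)) := by
            ring
        _ = 1 := by rw [haa, hcc, one_mul]
    let Lh : X →* (Additive d.Q →ₗ[ZMod N] Additive d.Q) :=
      { toFun := L, map_one' := h1, map_mul' := hLmul }
    show LinearMap.det (Lh y) = 1
    rw [hy, map_pow, map_pow, show LinearMap.det (Lh y0) = 1 from h0, one_pow]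
  set k := eq.symm (L y (g 2)) with hk
  have hk' : L y (g 2) = k 0 • g 0 + k 1 • g 1 + k 2 • g 2 := by
    have h : φ k = L y (g 2) := eq.apply_symm_apply _
    rw [← h, hφ]; rfl
  have hα : k 0 = 1 := by
    have h := LinearMap.det_toMatrix B (L y)
    rw [hdet_one, det_fin_three] at h
    have h0 : ∀ l, eq.symm (g l) = Pi.single l 1 := fun l => by
      rw [← hB, Basis.coe_ofEquivFun, LinearEquiv.symm_symm]
      exact eq.symm_apply_apply _
    have hc0 : ∀ i, LinearMap.toMatrix B B (L y) i 0 = (Pi.single 1 1 : Fin 3 → ZMod N) i := fun i => by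
      rw [LinearMap.toMatrix_apply, Basis.ofEquivFun_repr_apply, hB, show L y (g 0) = g 1 from rfl, h0]
    have hc1 : ∀ i, LinearMap.toMatrix B B (L y) i 1 = (Pi.single 2 1 : Fin 3 → ZMod N) i := fun i => by
      rw [LinearMap.toMatrix_apply, Basis.ofEquivFun_repr_apply, hB, show L y (g 1) = g 2 from rfl, h0]
    have hc2 : ∀ i, LinearMap.toMatrix B B (L y) i 2 = k i := fun i => by
      rw [LinearMap.toMatrix_apply, Basis.ofEquivFun_repr_apply, hB, hk]
    simp only [hc0, hc1, hc2] at h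
    simpa using h
  have hy4 : d.ρ (y ^ 4) = 1 := by
    rw [show y ^ 4 = y * y * y * y by simp [pow_succ], d.ρ_mul, d.ρ_mul, d.ρ_mul, hρy, hY4]
  have hL4 : L y (L y (L y (L y (g 0)))) = g 0 := by
    have h := hLker _ hy4
    rw [show y ^ 4 = y * (y * (y * y)) by simp [pow_succ, mul_assoc], hLmul, hLmul, hLmul] at h
    exact LinearMap.congr_fun h (g 0)
  have hLg : L y (g 0) = g 1 ∧ L y (g 1) = g 2 := ⟨rfl, rfl⟩
  have hcoef : k 2 = 1 ∧ k 1 = -1 := by
    rw [hLg.1, hLg.2, hk', map_add, map_add, map_smul, map_smul, map_smul, hLg.1, hLg.2, hk', hα,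
      one_smul, one_smul] at hL4
    have e : φ ![k 2, 1 + k 2 * k 1, k 1 + k 2 * k 2] = φ ![1, 0, 0] := by
      rw [hφ, hφ]
      show k 2 • g 0 + (1 + k 2 * k 1) • g 1 + (k 1 + k 2 * k 2) • g 2 =
        (1 : ZMod N) • g 0 + (0 : ZMod N) • g 1 + (0 : ZMod N) • g 2
      rw [one_smul, zero_smul, zero_smul, add_zero, add_zero]
      refine Eq.trans ?_ hL4
      simp only [smul_add, smul_smul, add_smul, one_smul]
      abel
    have e' := hinj e
    have e0 : k 2 = 1 := congrFun e' 0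
    have e1 : 1 + k 2 * k 1 = 0 := congrFun e' 1
    rw [e0, one_mul] at e1
    exact ⟨e0, eq_neg_of_add_eq_zero_right e1⟩
  -- the fourth power of `y`
  have hqQ : y ^ 4 ∈ d.Q := hK _ hy4 ⟨j, by rw [← pow_mul, mul_comm, pow_mul, hy2, one_pow]⟩
  let q : Additive d.Q := Additive.ofMul ⟨y ^ 4, hqQ⟩
  have hqfix : L y q = q := Additive.toMul.injective <| Subtype.ext <| by
    show y * y ^ 4 * y⁻¹ = y ^ 4; group
  obtain ⟨t, ht⟩ := hbij.2 q
  have ht' : φ t = t 0 • g 0 + t 1 • g 1 + t 2 • g 2 := hφ t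
  have htfix : φ ![t 2, t 0 - t 2, t 1 + t 2] = φ t := by
    conv_rhs => rw [ht, ← hqfix, ← ht, ht', map_add, map_add, map_smul, map_smul, map_smul, hLg.1, hLg.2,
      hk', hα, hcoef.1, hcoef.2]
    rw [hφ]
    show t 2 • g 0 + (t 0 - t 2) • g 1 + (t 1 + t 2) • g 2 = _
    module
  have e' := hinj htfix
  have t0 : t 2 = t 0 := congrFun e' 0
  have t1 : t 0 - t 2 = t 1 := congrFun e' 1
  rw [t0, sub_self] at t1
  set s : Additive d.Q := t 0 • g 0 with hs
  have hq : q = s + L y (L y s) := by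
    rw [← ht, ht', ← t1, t0, zero_smul, add_zero, hs, map_smul, hLg.1, map_smul, hLg.2]
  have hqx : y ^ 4 = (s.toMul : X) * (y * (y * (s.toMul : X) * y⁻¹) * y⁻¹) :=
    congrArg (fun z : Additive d.Q => (z.toMul : X)) hq
  set s' := (s.toMul : X) with hs'
  have hy4c : y ^ 4 * s' = s' * y ^ 4 := hcomm _ hqQ _ s.toMul.2
  have hcs : y * (y * s' * y⁻¹) * y⁻¹ * s' = s' * (y * (y * s' * y⁻¹) * y⁻¹) :=
    hcomm _ (d.nQ.conj_mem _ (d.nQ.conj_mem _ s.toMul.2 y) y) _ s.toMul.2
  set z := s'⁻¹ * (y * y) with hz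
  have hρz : d.ρ z = Y * Y := by
    rw [hz, d.ρ_mul, d.cent _ (d.Q.inv_mem s.toMul.2), one_mul, d.ρ_mul, hρy]
  have hz2 : z * z = 1 := by
    calc z * z = s'⁻¹ * (y * (y * s' * y⁻¹) * y⁻¹)⁻¹ * y ^ 4 := by
          simp [hz, pow_succ, mul_assoc]
      _ = s'⁻¹ * (y * (y * s' * y⁻¹) * y⁻¹)⁻¹ * (s' * (y * (y * s' * y⁻¹) * y⁻¹)) := by rw [← hqx]
      _ = 1 := by rw [← hcs]; group
  have hz1 : z ≠ 1 := fun e => hY2 (by rw [← hρz, e, d.ρ_one])
  have hord : orderOf z = 2 := orderOf_eq_prime (by rw [pow_two, hz2]) hz1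
  exact hY2 (by rw [← hρz, d.cent _ (d.le (hinv z hord))])

end Cfsg.Agent.SEMain.Omega
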