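import Cfsg.Agent.Lib.SEMain.Omega.Lin
import Mathlib.GroupTheory.PGroup
import Mathlib.LinearAlgebra.Matrix.ToLin
import Mathlib.Algebra.Module.ZMod
import Mathlib.GroupTheory.QuotientGroup.Basic
import Mathlib.GroupTheory.Perm.Cycle.Type

/-!
A normal 2-subgroup whose involutions form the natural module of `GL(3,2)`, inner automorphisms apart, is abelian.
-/

set_option autoImplicit false
set_option linter.unusedSectionVars false
set_option linter.style.haveILetI false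

namespace Cfsg.Agent.SEMain.Omega

open Matrix Mat

universe u

/-- Coordinates on `W`, the matrices of conjugation, and a normal 2-subgroup with all involutions in `W`. -/
structure Three (X : Type u) [Group X] where
  W : Subgroup X
  Q : Subgroup X
  nW : W.Normal
  nQ : Q.Normal
  v : V3 → X
  ρ : X → M3
  v_mem : ∀ a, v a ∈ W
  v_surj : ∀ w ∈ W, ∃ a, v a = w
  v_inj : ∀ a b, v a = v b → a = b
  v_add : ∀ a b, v (a + b) = v a * v b
  spec : ∀ x a, x * v a * x⁻¹ = v (ρ x *ᵥ a)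
  surj : ∀ M : M3, M.det = 1 → ∃ x, ρ x = M
  le : W ≤ Q
  pQ : IsPGroup 2 Q
  cent : ∀ q ∈ Q, ρ q = 1
  inner : ∀ k, ρ k = 1 → ∃ q ∈ Q, ∀ p ∈ Q, k * p * k⁻¹ = q * p * q⁻¹
  inv : ∀ q ∈ Q, q * q = 1 → q ∈ W

namespace Three

variable {X : Type u} [Group X] (d : Three X)

/-- The conclusion: abelian and homocyclic. -/
def Homocyclic : Prop :=
  (∀ p ∈ d.Q, ∀ q ∈ d.Q, p * q = q * p) ∧
    ∃ r : ℕ, (∀ q ∈ d.Q, q ^ 2 ^ (r + 1) = 1) ∧ ∀ w ∈ d.W, ∃ q ∈ d.Q, q ^ 2 ^ r = w

theorem v_zero : d.v 0 = 1 := by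
  have h := d.v_add 0 0
  rwa [add_zero, eq_comm, mul_eq_left] at h

theorem sq_W {w : X} (hw : w ∈ d.W) : w * w = 1 := by
  obtain ⟨a, rfl⟩ := d.v_surj w hw
  rw [← d.v_add, two_vec, v_zero]

theorem mulVec_inj {M M' : M3} (h : ∀ a, M *ᵥ a = M' *ᵥ a) : M = M' := by
  ext i j
  simpa [Matrix.mulVec_single] using congrFun (h (Pi.single j 1)) i

theorem ρ_mul (x y : X) : d.ρ (x * y) = d.ρ x * d.ρ y := mulVec_inj fun a => d.v_inj _ _ <| by
  rw [← mulVec_mulVec, ← d.spec, ← d.spec, ← d.spec]; group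

theorem ρ_one : d.ρ 1 = 1 := mulVec_inj fun a => d.v_inj _ _ <| by
  rw [← d.spec, one_mulVec]; group

theorem ρ_det (x : X) : (d.ρ x).det = 1 := by
  have h := congrArg Matrix.det (d.ρ_mul x x⁻¹)
  rw [mul_inv_cancel, d.ρ_one, det_one, det_mul] at h
  revert h
  generalize (d.ρ x).det = a
  generalize (d.ρ x⁻¹).det = b
  revert a b
  decide

theorem ρ_inv (x : X) : d.ρ x⁻¹ = (d.ρ x).adjugate := by
  have h : d.ρ x⁻¹ * d.ρ x = 1 := by rw [← d.ρ_mul, inv_mul_cancel, d.ρ_one]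
  calc d.ρ x⁻¹ = d.ρ x⁻¹ * (d.ρ x * (d.ρ x).adjugate) := by
        rw [mul_adjugate, d.ρ_det, one_smul, mul_one]
    _ = _ := by rw [← mul_assoc, h, one_mul]

theorem commW {w q : X} (hw : w ∈ d.W) (hq : q ∈ d.Q) : q * w = w * q := by
  obtain ⟨a, rfl⟩ := d.v_surj w hw
  calc q * d.v a = q * d.v a * q⁻¹ * q := by group
    _ = d.v a * q := by rw [d.spec, d.cent q hq, one_mulVec]

/-- The inverse of the coordinates. -/
noncomputable def vi (w : X) : V3 := Function.invFun d.v w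

theorem vi_v (a : V3) : d.vi (d.v a) = a := Function.leftInverse_invFun d.v_inj a

theorem v_vi {w : X} (hw : w ∈ d.W) : d.v (d.vi w) = w := Function.invFun_eq (d.v_surj w hw)

theorem vi_mul {a b : X} (ha : a ∈ d.W) (hb : b ∈ d.W) : d.vi (a * b) = d.vi a + d.vi b :=
  d.v_inj _ _ (by rw [d.v_add, d.v_vi ha, d.v_vi hb, d.v_vi (d.W.mul_mem ha hb)])

theorem vi_one : d.vi 1 = 0 := by rw [← d.v_zero, d.vi_v]

theorem vi_conj (x : X) {a : X} (ha : a ∈ d.W) : d.vi (x * a * x⁻¹) = d.ρ x *ᵥ d.vi a :=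
  d.v_inj _ _ (by rw [← d.spec, d.v_vi ha, d.v_vi (d.nW.conj_mem a ha x)])

/-- The commutator. -/
def co (p q : X) : X := p * q * p⁻¹ * q⁻¹

theorem co_mem {p q : X} (h : (↑(p * q) : X ⧸ d.W) = ↑(q * p)) : co p q ∈ d.W := by
  have h' : co p q = (p * q) * (q * p)⁻¹ := by simp [co, mul_assoc]
  haveI := d.nW
  rw [h', ← QuotientGroup.eq_one_iff, QuotientGroup.mk_mul, QuotientGroup.mk_inv, h, mul_inv_cancel]

theorem co_mul_left {p p' q : X} (hp : p ∈ d.Q) (h : co p' q ∈ d.W) :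
    co (p * p') q = co p' q * co p q := by
  have e : co (p * p') q = (p * co p' q) * (q * p⁻¹ * q⁻¹) := by simp [co, mul_assoc]
  rw [e, d.commW h hp]; simp [co, mul_assoc]

theorem co_mul_right {p q q' : X} (hq : q ∈ d.Q) (h : co p q' ∈ d.W) :
    co p (q * q') = co p q * co p q' := by
  have e : co p (q * q') = co p q * (q * co p q' * q⁻¹) := by simp [co, mul_assoc]
  rw [e, d.commW h hq]; simp [mul_assoc]

theorem co_W {p w : X} (hw : w ∈ d.W) (hp : p ∈ d.Q) : co p w = 1 ∧ co w p = 1 := by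
  have h := d.commW hw hp
  constructor
  · simp [co, h, mul_assoc]
  · simp [co, ← h, mul_assoc]

theorem co_symm {p q : X} (h : co p q ∈ d.W) : co q p = co p q := by
  have e : co q p = (co p q)⁻¹ := by simp [co, mul_assoc]
  rw [e, inv_eq_of_mul_eq_one_right (d.sq_W h)]

theorem conj_co (x p q : X) : x * co p q * x⁻¹ = co (x * p * x⁻¹) (x * q * x⁻¹) := by
  simp [co, mul_assoc]

theorem mul_sq {p q : X} (hp : p ∈ d.Q) (hq : q ∈ d.Q) (h : co q p ∈ d.W) :
    p * q * (p * q) = co q p * (p * p) * (q * q) := by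
  calc p * q * (p * q) = p * (co q p * p) * (q * q) := by simp [co, mul_assoc]
    _ = _ := by rw [← mul_assoc p, d.commW h hp]; simp [mul_assoc]

end Three

variable {X : Type u} [Group X] [Finite X]

/-- The layer above `W`: an abelian copy of the natural module with squares onto `W`, central modulo `W`,
containing every element of `Q` with square in `W`. -/
theorem Three.exists_layer (d : Three X) (hne : d.Q ≠ d.W) :
    ∃ u : V3 → X, (∀ a, u a ∈ d.Q) ∧ (∀ a, u a * u a = d.v a) ∧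
      (∀ a b, (u (a + b))⁻¹ * (u a * u b) ∈ d.W) ∧
      (∀ x a, (u (d.ρ x *ᵥ a))⁻¹ * (x * u a * x⁻¹) ∈ d.W) ∧
      (∀ q ∈ d.Q, ∀ a, q * u a = u a * q) ∧
      ∀ q ∈ d.Q, q * q ∈ d.W → ∃ a, (u a)⁻¹ * q ∈ d.W := by
  classical
  haveI := d.nW
  haveI := d.nQ
  let π : X →* X ⧸ d.W := QuotientGroup.mk' d.W
  let Qb : Subgroup (X ⧸ d.W) := d.Q.map π
  haveI hQb : Qb.Normal := d.nQ.map π (QuotientGroup.mk'_surjective _)
  let Vb : Subgroup (X ⧸ d.W) :=
    { carrier := {c | c ∈ Qb ∧ c * c = 1 ∧ ∀ q ∈ Qb, q * c = c * q}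
      one_mem' := ⟨one_mem _, one_mul 1, fun q _ => by rw [mul_one, one_mul]⟩
      mul_mem' := fun {a b} ha hb => ⟨mul_mem ha.1 hb.1, by
          calc a * b * (a * b) = a * (b * a) * b := by group
            _ = (a * a) * (b * b) := by rw [hb.2.2 a ha.1 |>.symm]; group
            _ = 1 := by rw [ha.2.1, hb.2.1, one_mul],
        fun q hq => by rw [← mul_assoc, ha.2.2 q hq, mul_assoc, hb.2.2 q hq, mul_assoc]⟩
      inv_mem' := fun {a} ha => by rwa [inv_eq_of_mul_eq_one_right ha.2.1] }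
  haveI : IsMulCommutative Vb := ⟨⟨fun a b => Subtype.ext (b.2.2.2 a a.2.1)⟩⟩
  letI : CommGroup Vb := { (inferInstance : Group Vb) with mul_comm := fun a b => mul_comm' a b }
  let rep : Vb → X := fun c => Quotient.out c.1
  have hrep : ∀ c : Vb, π (rep c) = c.1 := fun c => QuotientGroup.out_eq' c.1
  have hπ : ∀ {p q : X}, π p = π q → p⁻¹ * q ∈ d.W := fun h => QuotientGroup.eq.1 h
  have hmemQ : ∀ {p : X}, π p ∈ Qb → p ∈ d.Q := by
    intro p ⟨q, hq, e⟩
    have := d.Q.mul_mem hq (d.le (hπ e))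
    rwa [mul_inv_cancel_left] at this
  have hrQ : ∀ c : Vb, rep c ∈ d.Q := fun c => hmemQ (by rw [hrep]; exact c.2.1)
  have hco : ∀ (c : Vb) {q : X}, q ∈ d.Q → co q (rep c) ∈ d.W := fun c q hq => d.co_mem <| by
    show π (q * rep c) = π (rep c * q)
    rw [map_mul, map_mul, hrep, c.2.2.2 _ ⟨q, hq, rfl⟩]
  have hsqm : ∀ c : Vb, rep c * rep c ∈ d.W := fun c => by
    rw [← QuotientGroup.eq_one_iff]
    show π _ = 1
    rw [map_mul, hrep, c.2.2.1]
  have hlift : ∀ (c : Vb) {p : X}, π p = c.1 → p * p = rep c * rep c := by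
    intro c p hp
    have hw : (rep c)⁻¹ * p ∈ d.W := hπ (by rw [hp, hrep])
    calc p * p = rep c * ((rep c)⁻¹ * p * rep c) * ((rep c)⁻¹ * p) := by group
      _ = rep c * rep c * (((rep c)⁻¹ * p) * ((rep c)⁻¹ * p)) := by
          rw [← d.commW hw (hrQ c)]; group
      _ = _ := by rw [d.sq_W hw, mul_one]
  let V := Additive Vb
  let sq : V → V3 := fun c => d.vi (rep c.toMul * rep c.toMul)
  let xs : M3 → X := fun M => if h : M.det = 1 then (d.surj M h).choose else 1
  have hxs : ∀ M : M3, M.det = 1 → d.ρ (xs M) = M := fun M h => by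
    simp only [xs, dif_pos h]; exact (d.surj M h).choose_spec
  have hconj : ∀ (x : X) (c : Vb), π x * c.1 * (π x)⁻¹ ∈ Vb := fun x c =>
    ⟨hQb.conj_mem _ c.2.1 _,
      by rw [show π x * c.1 * (π x)⁻¹ * (π x * c.1 * (π x)⁻¹) = π x * (c.1 * c.1) * (π x)⁻¹ by group,
        c.2.2.1, mul_one, mul_inv_cancel],
      fun q hq => by
        have h := c.2.2.2 _ (hQb.conj_mem q hq (π x)⁻¹)
        calc q * (π x * c.1 * (π x)⁻¹) = π x * (((π x)⁻¹ * q * ((π x)⁻¹)⁻¹) * c.1) * (π x)⁻¹ := by group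
          _ = π x * (c.1 * ((π x)⁻¹ * q * ((π x)⁻¹)⁻¹)) * (π x)⁻¹ := by rw [h]
          _ = π x * c.1 * (π x)⁻¹ * q := by group⟩
  let actX : X → V → V := fun x c => Additive.ofMul ⟨π x * c.toMul.1 * (π x)⁻¹, hconj x c.toMul⟩
  have hsame : ∀ x y : X, d.ρ x = d.ρ y → ∀ c, actX x c = actX y c := by
    intro x y h c
    obtain ⟨q, hq, hk⟩ := d.inner (y⁻¹ * x) (by
      rw [d.ρ_mul, h, ← d.ρ_mul, inv_mul_cancel, d.ρ_one])
    refine congrArg Additive.ofMul (Subtype.ext ?_)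
    set r := rep c.toMul with hr
    have e : π (y⁻¹ * x) * c.toMul.1 * (π (y⁻¹ * x))⁻¹ = c.toMul.1 := by
      rw [← hrep c.toMul, ← map_inv, ← map_mul, ← map_mul, hk _ (hrQ _), map_mul, map_mul, map_inv,
        hrep, c.toMul.2.2.2 _ ⟨q, hq, rfl⟩, mul_assoc, mul_inv_cancel, mul_one]
    calc π x * c.toMul.1 * (π x)⁻¹ = π y * (π (y⁻¹ * x) * c.toMul.1 * (π (y⁻¹ * x))⁻¹) * (π y)⁻¹ := by
          rw [map_mul, map_inv]; group
      _ = _ := by rw [e]
  have hone : ∀ c, actX 1 c = c := fun c =>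
    congrArg Additive.ofMul (Subtype.ext (by show π 1 * c.toMul.1 * (π 1)⁻¹ = c.toMul.1; rw [map_one]; group))
  let qd : Quad V :=
    { act := fun M c => actX (xs M) c
      sq := sq
      two := fun c => congrArg Additive.ofMul (Subtype.ext c.toMul.2.2.1)
      act_one := fun c => (hsame _ 1 (by rw [hxs 1 det_one, d.ρ_one]) c).trans (hone c)
      act_mul := fun M N hM hN c => by
        show actX (xs (M * N)) c = actX (xs M) (actX (xs N) c)
        rw [hsame _ (xs M * xs N) (by rw [hxs _ (det_mul_one hM hN), d.ρ_mul, hxs M hM, hxs N hN])]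
        refine congrArg Additive.ofMul (Subtype.ext ?_)
        show π _ * _ * (π _)⁻¹ = π _ * (π _ * c.toMul.1 * (π _)⁻¹) * (π _)⁻¹
        rw [map_mul]; group
      act_add := fun M _ u w => congrArg Additive.ofMul (Subtype.ext (by
        show π _ * (u.toMul.1 * w.toMul.1) * (π _)⁻¹ =
          (π _ * u.toMul.1 * (π _)⁻¹) * (π _ * w.toMul.1 * (π _)⁻¹)
        group))
      sq_zero := by
        show d.vi _ = 0
        rw [← hlift _ (p := 1) (map_one π), one_mul, d.vi_one]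
      sq_ne := fun c hc h => hc (congrArg Additive.ofMul (Subtype.ext (by
        have h1 := congrArg d.v h
        rw [d.v_zero, d.v_vi (hsqm _)] at h1
        show c.toMul.1 = 1
        rw [← hrep c.toMul]
        exact (QuotientGroup.eq_one_iff _).2 (d.inv _ (hrQ _) h1))))
      sq_act := fun M hM c => by
        have h1 : π (xs M * rep c.toMul * (xs M)⁻¹) = (actX (xs M) c).toMul.1 := by
          rw [map_mul, map_mul, map_inv, hrep]; rfl
        show d.vi _ = _
        rw [← hlift _ h1,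
          show xs M * rep c.toMul * (xs M)⁻¹ * (xs M * rep c.toMul * (xs M)⁻¹) =
            xs M * (rep c.toMul * rep c.toMul) * (xs M)⁻¹ by group, d.vi_conj _ (hsqm _), hxs M hM]
      polar := fun a b c => by
        set p := rep a.toMul
        set q := rep b.toMul
        set r := rep c.toMul
        have hp : p ∈ d.Q := hrQ _
        have hq : q ∈ d.Q := hrQ _
        have hr : r ∈ d.Q := hrQ _
        have ht : d.W.Normal := d.nW
        have s2 : ∀ (i j : V), sq (i + j) = d.vi (co (rep j.toMul) (rep i.toMul)) + sq i + sq j := by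
          intro i j
          show d.vi _ = _
          rw [← hlift (i + j).toMul (p := rep i.toMul * rep j.toMul) (by rw [map_mul, hrep, hrep]; rfl),
            d.mul_sq (hrQ _) (hrQ _) (hco _ (hrQ _)),
            d.vi_mul (d.W.mul_mem (hco _ (hrQ _)) (hsqm _)) (hsqm _), d.vi_mul (hco _ (hrQ _)) (hsqm _)]
        have h1 : π (p * q) = (a + b).toMul.1 := by rw [map_mul, hrep, hrep]; rfl
        have hw : (p * q)⁻¹ * rep (a + b).toMul ∈ d.W := hπ (by rw [h1, hrep])
        have s3 : d.vi (co r (rep (a + b).toMul)) = d.vi (co r p) + d.vi (co r q) := by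
          have e : rep (a + b).toMul = p * q * ((p * q)⁻¹ * rep (a + b).toMul) := by group
          have hrq : co r q ∈ d.W := hco _ hr
          have hrp : co r p ∈ d.W := hco _ hr
          have hone : co r ((p * q)⁻¹ * rep (a + b).toMul) = 1 := (d.co_W hw hr).1
          rw [e, d.co_mul_right (d.Q.mul_mem hp hq) (by rw [hone]; exact one_mem _), hone, mul_one,
            d.co_mul_right hp hrq, d.vi_mul hrp hrq]
        rw [s2 (a + b) c, s2 a b, s2 a c, s2 b c, s3]
        funext i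
        simp only [Pi.add_apply, Pi.zero_apply]
        generalize d.vi (co r p) i = e1
        generalize d.vi (co r q) i = e2
        generalize d.vi (co q p) i = e3
        generalize sq a i = e4
        generalize sq b i = e5
        generalize sq c i = e6
        revert e1 e2 e3 e4 e5 e6
        decide }
  have hV : ∃ c : V, c ≠ 0 := by
    have hQb1 : Qb ≠ ⊥ := by
      intro e
      refine hne (le_antisymm (fun q hq => ?_) d.le)
      have : π q ∈ Qb := ⟨q, hq, rfl⟩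
      rw [e, Subgroup.mem_bot] at this
      exact (QuotientGroup.eq_one_iff q).1 this
    haveI : Nontrivial Qb := (Subgroup.nontrivial_iff_ne_bot _).2 hQb1
    have hp : IsPGroup 2 Qb := d.pQ.map π
    haveI := hp.center_nontrivial
    haveI : Fact (Nat.Prime 2) := ⟨Nat.prime_two⟩
    obtain ⟨n, hn, hcard⟩ :=
      (IsPGroup.nontrivial_iff_card (hp.to_subgroup (Subgroup.center Qb))).1 inferInstance
    obtain ⟨c, hc⟩ := exists_prime_orderOf_dvd_card' (G := Subgroup.center Qb) 2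
      (hcard ▸ dvd_pow_self 2 hn.ne')
    have hmem : c.1.1 ∈ Vb := ⟨c.1.2, by
      have h := pow_orderOf_eq_one c
      rw [hc, pow_two] at h
      exact congrArg (fun z : Subgroup.center Qb => z.1.1) h,
      fun q hq => congrArg Subtype.val (Subgroup.mem_center_iff.1 c.2 ⟨q, hq⟩)⟩
    refine ⟨Additive.ofMul ⟨c.1.1, hmem⟩, fun e => ?_⟩
    have h : c.1.1 = 1 := congrArg (fun z : V => z.toMul.1) e
    have : c = 1 := Subtype.ext (Subtype.ext h)
    rw [this, orderOf_one] at hc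
    norm_num at hc
  obtain ⟨fam, hsec, hfadd, hfeq, hfB⟩ := qd.exists_section hV
  let u : V3 → X := fun a => rep (fam a).toMul
  have hu2 : ∀ a, u a * u a = d.v a := fun a => by
    rw [← d.v_vi (hsqm _), show d.vi (u a * u a) = a from hsec a]
  have huadd : ∀ a b, (u (a + b))⁻¹ * (u a * u b) ∈ d.W := fun a b => hπ <| by
    show π (rep (fam (a + b)).toMul) = π (rep (fam a).toMul * rep (fam b).toMul)
    rw [map_mul, hrep, hrep, hrep, hfadd]; rfl
  have hueq : ∀ x a, (u (d.ρ x *ᵥ a))⁻¹ * (x * u a * x⁻¹) ∈ d.W := fun x a => hπ <| by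
    show π (rep (fam (d.ρ x *ᵥ a)).toMul) = π (x * rep (fam a).toMul * x⁻¹)
    rw [map_mul, map_mul, map_inv, hrep, hrep, ← hfeq _ (d.ρ_det x)]
    exact congrArg (fun z : V => z.toMul.1) (hsame _ x (hxs _ (d.ρ_det x)) (fam a))
  have huQ : ∀ a, u a ∈ d.Q := fun a => hrQ _
  -- the map of `Q` into the endomorphisms of `W`
  let al : X → V3 → V3 := fun z a => d.vi (co z (u a))
  have hal_add : ∀ z ∈ d.Q, ∀ a b, al z (a + b) = al z a + al z b := by
    intro z hz a b
    have hw := huadd a b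
    have e : u a * u b = u (a + b) * ((u (a + b))⁻¹ * (u a * u b)) := by group
    have hone : co z ((u (a + b))⁻¹ * (u a * u b)) = 1 := (d.co_W hw hz).1
    show d.vi _ = d.vi _ + d.vi _
    rw [← d.vi_mul (hco _ hz) (hco _ hz), ← d.co_mul_right (huQ a) (hco _ hz), e,
      d.co_mul_right (huQ _) (by rw [hone]; exact one_mem _), hone, mul_one]
  let A : X → M3 := fun z => Matrix.of fun i j => al z (Pi.single j 1) i
  have hA : ∀ z ∈ d.Q, ∀ a, A z *ᵥ a = al z a := by
    intro z hz a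
    let f : V3 →+ V3 := AddMonoidHom.mk' (al z) (hal_add z hz)
    have h : A z = LinearMap.toMatrix' (f.toZModLinearMap 2) := by
      ext i j
      simp [A, f, LinearMap.toMatrix'_apply]
    rw [h, ← Matrix.toLin'_apply, Matrix.toLin'_toMatrix']
    rfl
  have hA_mul : ∀ z ∈ d.Q, ∀ z' ∈ d.Q, A (z * z') = A z + A z' := fun z hz z' hz' => mulVec_inj fun a => by
    rw [add_mulVec, hA _ (d.Q.mul_mem hz hz'), hA z hz, hA z' hz', add_comm]
    show d.vi _ = d.vi _ + d.vi _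
    rw [d.co_mul_left hz (hco _ hz'), d.vi_mul (hco _ hz') (hco _ hz)]
  have hA_conj : ∀ x, ∀ z ∈ d.Q, A (x * z * x⁻¹) = d.ρ x * A z * (d.ρ x).adjugate := by
    intro x z hz
    have hzx : x * z * x⁻¹ ∈ d.Q := d.nQ.conj_mem z hz x
    refine mulVec_inj fun b => ?_
    obtain ⟨a, rfl⟩ : ∃ a, d.ρ x *ᵥ a = b :=
      ⟨(d.ρ x).adjugate *ᵥ b, by rw [mulVec_mulVec, mul_adjugate, d.ρ_det, one_smul, one_mulVec]⟩
    rw [hA _ hzx, mulVec_mulVec, Matrix.mul_assoc (d.ρ x * A z), adj_mul (d.ρ_det x), Matrix.mul_one,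
      ← mulVec_mulVec, hA z hz]
    show d.vi _ = _ *ᵥ d.vi _
    rw [← d.vi_conj x (hco _ hz), conj_co]
    have hw := hueq x a
    have hone : co (x * z * x⁻¹) ((u (d.ρ x *ᵥ a))⁻¹ * (x * u a * x⁻¹)) = 1 := (d.co_W hw hzx).1
    rw [show x * u a * x⁻¹ = u (d.ρ x *ᵥ a) * ((u (d.ρ x *ᵥ a))⁻¹ * (x * u a * x⁻¹)) by group,
      d.co_mul_right (huQ _) (by rw [hone]; exact one_mem _), hone, mul_one]
  have hA_one : A 1 = 0 := by
    have h := hA_mul 1 (one_mem _) 1 (one_mem _)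
    rw [one_mul] at h
    exact left_eq_add.1 h
  let I : AddSubgroup M3 :=
    { carrier := {M | ∃ z ∈ d.Q, A z = M}
      zero_mem' := ⟨1, one_mem _, hA_one⟩
      add_mem' := fun {M N} ⟨z, hz, ez⟩ ⟨z', hz', ez'⟩ => ⟨z * z', mul_mem hz hz', by rw [hA_mul z hz z' hz', ez, ez']⟩
      neg_mem' := fun {M} ⟨z, hz, ez⟩ => ⟨z, hz, by
        rw [ez]; funext i j; exact (ZMod.neg_eq_self_mod_two _).symm⟩ }
  have hI : I = ⊥ := by
    by_contra hI
    obtain ⟨M, hMI, hM0, hMG⟩ : ∃ M, M ∈ I ∧ M ≠ 0 ∧ G * M = M * G := by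
      rcases exists_one_or_G I (fun M hM B ⟨z, hz, e⟩ => ⟨xs M * z * (xs M)⁻¹, d.nQ.conj_mem z hz _,
        by rw [hA_conj _ z hz, hxs M hM, e]⟩) hI with h | h
      · exact ⟨1, h, one_ne_zero, by rw [mul_one, one_mul]⟩
      · exact ⟨G, h, by decide +kernel, rfl⟩
    obtain ⟨z0, hz0, hAz0⟩ := hMI
    haveI : Fact (Nat.Prime 7) := ⟨by decide⟩
    haveI : Fact (Nat.Prime 2) := ⟨Nat.prime_two⟩
    obtain ⟨x, hx⟩ := d.surj G det_G
    obtain ⟨b, m, hm, hbm⟩ := Nat.exists_eq_pow_mul_and_not_dvd (orderOf_pos x).ne' 7 (by norm_num)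
    obtain ⟨m', hm'⟩ : ∃ m', m * m' % 7 = 1 := by
      have : ∀ r : Fin 7, r ≠ 0 → ∃ s : Fin 7, r.val * s.val % 7 = 1 := by decide
      obtain ⟨s, hs⟩ := this ⟨m % 7, Nat.mod_lt _ (by norm_num)⟩ (fun e => hm (Nat.dvd_of_mod_eq_zero
        (congrArg Fin.val e)))
      exact ⟨s.val, by simpa [Nat.mul_mod, Nat.mod_mod] using hs⟩
    set g := x ^ (m * m') with hg
    have hρg : d.ρ g = G := by
      let ρh : X →* M3 := { toFun := d.ρ, map_one' := d.ρ_one, map_mul' := d.ρ_mul }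
      show ρh g = G
      rw [hg, map_pow, show ρh x = G from hx, ← Nat.div_add_mod (m * m') 7, hm', pow_add, pow_mul, pow_one,
        show G ^ 7 = 1 by simpa [pow_succ] using G_pow, one_pow, one_mul]
    have hg7 : IsPGroup 7 (Subgroup.zpowers g) := by
      refine IsPGroup.of_card_dvd_pow (n := b) ?_
      rw [Nat.card_zpowers, orderOf_dvd_iff_pow_eq_one, hg, ← pow_mul,
        show m * m' * 7 ^ b = orderOf x * m' by rw [hbm]; ring, pow_mul, pow_orderOf_eq_one, one_pow]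
    let Z : Type u := {z : X // z ∈ d.Q ∧ A z = M}
    have hfix : ∀ h ∈ Subgroup.zpowers g, d.ρ h * M * (d.ρ h).adjugate = M := by
      intro h ⟨k, hk⟩
      have hc : Commute (d.ρ g) M := by rw [hρg]; exact hMG
      have hck : ∀ n : ℕ, Commute (d.ρ (g ^ n)) M := fun n => by
        induction n with
        | zero => rw [pow_zero, d.ρ_one]; exact Commute.one_left _
        | succ n ih => rw [pow_succ, d.ρ_mul]; exact ih.mul_left hc
      obtain ⟨n, hn⟩ : ∃ n : ℕ, g ^ n = h :=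
        (isOfFinOrder_of_finite g).mem_powers_iff_mem_zpowers.2 ⟨k, hk⟩
      rw [← hn, (hck n).eq, mul_assoc, mul_adjugate, d.ρ_det, one_smul, mul_one]
    letI : MulAction (Subgroup.zpowers g) Z :=
      { smul := fun h z => ⟨h.1 * z.1 * h.1⁻¹, d.nQ.conj_mem _ z.2.1 _, by
          rw [hA_conj _ _ z.2.1, z.2.2, hfix _ h.2]⟩
        one_smul := fun z => Subtype.ext (by show (1 : X) * z.1 * (1 : X)⁻¹ = z.1; group)
        mul_smul := fun h k z => Subtype.ext (by
          show h.1 * k.1 * z.1 * (h.1 * k.1)⁻¹ = h.1 * (k.1 * z.1 * k.1⁻¹) * h.1⁻¹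
          group) }
    let Ker : Subgroup X :=
      { carrier := {z | z ∈ d.Q ∧ A z = 0}
        one_mem' := ⟨one_mem _, hA_one⟩
        mul_mem' := fun {p q} hp hq => ⟨mul_mem hp.1 hq.1, by rw [hA_mul p hp.1 q hq.1, hp.2, hq.2, add_zero]⟩
        inv_mem' := fun {p} hp => ⟨inv_mem hp.1, by
          have h := hA_mul p hp.1 p⁻¹ (inv_mem hp.1)
          rwa [mul_inv_cancel, hA_one, hp.2, zero_add, eq_comm] at h⟩ }
    have e : Ker ≃ Z :=
      { toFun := fun k => ⟨z0 * k.1, mul_mem hz0 k.2.1, by rw [hA_mul z0 hz0 _ k.2.1, hAz0, k.2.2, add_zero]⟩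
        invFun := fun z => ⟨z0⁻¹ * z.1, mul_mem (inv_mem hz0) z.2.1, by
          have h := hA_mul z0 hz0 (z0⁻¹ * z.1) (mul_mem (inv_mem hz0) z.2.1)
          rw [mul_inv_cancel_left, z.2.2, hAz0] at h
          exact left_eq_add.1 h⟩
        left_inv := fun k => Subtype.ext (inv_mul_cancel_left z0 k.1)
        right_inv := fun z => Subtype.ext (mul_inv_cancel_left z0 z.1) }
    have hKer : IsPGroup 2 Ker := d.pQ.to_le (fun _ h => h.1)
    obtain ⟨n, hn⟩ := IsPGroup.iff_card.1 hKer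
    have h7 : ¬ 7 ∣ Nat.card Z := by
      rw [← Nat.card_congr e, hn]
      exact fun h => absurd ((Nat.prime_dvd_prime_iff_eq (by decide : Nat.Prime 7) Nat.prime_two).1
        ((by decide : Nat.Prime 7).dvd_of_dvd_pow h)) (by norm_num)
    obtain ⟨z, hz⟩ := hg7.nonempty_fixed_point_of_prime_not_dvd_card Z h7
    have hcomm : g * z.1 = z.1 * g := by
      have h := congrArg Subtype.val (hz ⟨g, Subgroup.mem_zpowers g⟩)
      calc g * z.1 = g * z.1 * g⁻¹ * g := by group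
        _ = z.1 * g := by rw [show g * z.1 * g⁻¹ = z.1 from h]
    have hz1 : z.1 ≠ 1 := fun e => hM0 (by rw [← z.2.2, e, hA_one])
    obtain ⟨k, hk⟩ := d.pQ ⟨z.1, z.2.1⟩
    have hk' : z.1 ^ 2 ^ k = 1 := congrArg Subtype.val hk
    obtain ⟨j, hj, hjk⟩ : ∃ j, z.1 ^ 2 ^ j ≠ 1 ∧ z.1 ^ 2 ^ (j + 1) = 1 := by
      clear hk
      induction k with
      | zero => exact absurd (by simpa using hk') hz1
      | succ k ih =>
        by_cases h : z.1 ^ 2 ^ k = 1
        · exact ih h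
        · exact ⟨k, h, hk'⟩
    have hw : z.1 ^ 2 ^ j ∈ d.W := d.inv _ (pow_mem z.2.1 _) (by
      rw [← pow_add, ← mul_two, ← pow_succ]; exact hjk)
    obtain ⟨a, ha⟩ := d.v_surj _ hw
    have h : d.v (d.ρ g *ᵥ a) = d.v a := by
      rw [← d.spec, ha, (show Commute g z.1 from hcomm).pow_right (2 ^ j) |>.eq, mul_inv_cancel_right]
    rw [hρg] at h
    rw [G_fix a (d.v_inj _ _ h), d.v_zero] at ha
    exact hj ha.symm
  have hcomm : ∀ q ∈ d.Q, ∀ a, q * u a = u a * q := by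
    intro q hq a
    have h : A q = 0 := (AddSubgroup.eq_bot_iff_forall _).1 hI _ ⟨q, hq, rfl⟩
    have h1 : al q a = 0 := by rw [← hA q hq, h, zero_mulVec]
    have h2 : co q (u a) = 1 := by rw [← d.v_vi (hco _ hq), show d.vi (co q (u a)) = 0 from h1, d.v_zero]
    calc q * u a = co q (u a) * (u a * q) := by simp [co, mul_assoc]
      _ = _ := by rw [h2, one_mul]
  refine ⟨u, huQ, hu2, huadd, hueq, hcomm, fun q hq hqq => ?_⟩
  obtain ⟨a, ha⟩ := d.v_surj _ hqq
  refine ⟨a, d.inv _ (mul_mem (inv_mem (huQ a)) hq) ?_⟩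
  have hc : Commute q (u a) := hcomm q hq a
  calc (u a)⁻¹ * q * ((u a)⁻¹ * q) = (u a)⁻¹ * (q * (u a)⁻¹) * q := by group
    _ = (u a * u a)⁻¹ * (q * q) := by rw [hc.inv_right.eq]; group
    _ = 1 := by rw [hu2, ha, inv_mul_cancel]

end Cfsg.Agent.SEMain.Omega
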