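import Cfsg.Agent.Lib.SEMain.Omega.Alg

/-!
Equivariant alternating forms on the natural module of `GL(3,2)` and invariant groups of endomorphisms.
-/

set_option autoImplicit false

namespace Cfsg.Agent.SEMain.Omega

open Matrix Mat

theorem alt_zero (β : V3 → V3 → V3) (heq : ∀ M : M3, M.det = 1 → ∀ u w, β (M *ᵥ u) (M *ᵥ w) = M *ᵥ β u w)
    (hadd : ∀ u v w, β (u + v) w = β u w + β v w) (hcomm : ∀ u w, β u w = β w u)
    (hself : ∀ u, β u u = 0) : ∀ u w, β u w = 0 := by
  obtain ⟨he1, he2, hne, -, hP1, hX'e2, -, hX'1, -⟩ := vec_eqs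
  have hX1' : X *ᵥ e1 = e1 ∧ X *ᵥ e2 = e2 ∧ X1 *ᵥ e1 = e1 ∧ X1 *ᵥ e2 = e2 ∧ P *ᵥ e2 = e1 := by
    decide +kernel
  obtain ⟨a1, a2, a3, a4, a5⟩ := hX1'
  have hc : β e1 e2 = 0 := by
    have h1 : X *ᵥ β e1 e2 = β e1 e2 := by rw [← heq X det_X, a1, a2]
    have h2 : X1 *ᵥ β e1 e2 = β e1 e2 := by rw [← heq X1 det_X1, a3, a4]
    have h3 : P *ᵥ β e1 e2 = β e1 e2 := by rw [← heq P det_P, hP1, a5, hcomm]
    rcases fix_axis _ h1 h2 h3 with e | e
    · exact e
    · exfalso
      have h := heq X' det_X' e1 e2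
      rw [hX'1, hX'e2, e, mulVec_add, hX'1, hX'e2, hcomm, hadd, hcomm e2, hself, e, zero_add] at h
      revert h; decide
  have h0 : ∀ w, β 0 w = 0 := fun w => by
    have h := hadd 0 0 w
    rw [add_zero] at h
    calc β 0 w = β 0 w + β 0 w := h
      _ = 0 := two_vec _
  intro u w
  by_cases hu : u = 0
  · rw [hu, h0]
  by_cases hw : w = 0
  · rw [hw, hcomm, h0]
  by_cases huw : u = w
  · rw [huw, hself]
  obtain ⟨M, hM, rfl, rfl⟩ := exists_pair u w hu hw huw
  rw [heq M hM, hc, mulVec_zero]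

namespace Mat

/-- An element of order 7. -/
def G : M3 := !![0, 0, 1; 1, 0, 1; 0, 1, 0]
/-- The nilpotent part of `X`. -/
def N : M3 := !![0, 0, 1; 0, 0, 0; 0, 0, 0]
/-- A cyclic permutation of the basis. -/
def C : M3 := !![0, 0, 1; 1, 0, 0; 0, 1, 0]
/-- A matrix carrying the centre `e1` and one axis through it to another. -/
def R : M3 := !![1, 0, 0; 0, 1, 0; 0, 1, 1]

theorem det_G : G.det = 1 := by decide +kernel
theorem det_C : C.det = 1 := by decide +kernel
theorem det_R : R.det = 1 := by decide +kernel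
theorem G_fix : ∀ u : V3, G *ᵥ u = u → u = 0 := by decide +kernel
theorem G_pow : G * G * G * G * G * G * G = 1 := by decide +kernel

theorem commutant : ∀ A : M3, X * A * X = A → X' * A * X' = A → X1 * A * X1 = A →
    A = 0 ∨ A = 1 ∨ A = N ∨ A = 1 + N := by decide +kernel

theorem span_eqs : G = C * N * C.adjugate + C.adjugate * N * C.adjugate.adjugate + N + P * N * P.adjugate ∧
    (1 + N) + S * (1 + N) * S.adjugate = R * N * R.adjugate ∧
    R.adjugate * (R * N * R.adjugate) * R.adjugate.adjugate = N ∧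
    X.adjugate = X ∧ X'.adjugate = X' ∧ X1.adjugate = X1 := by decide +kernel

end Mat

theorem exists_one_or_G (I : AddSubgroup M3)
    (hconj : ∀ M : M3, M.det = 1 → ∀ A ∈ I, M * A * M.adjugate ∈ I) (hI : I ≠ ⊥) :
    (1 : M3) ∈ I ∨ G ∈ I := by
  obtain ⟨hG, hR, hRN, aX, aX', a1⟩ := span_eqs
  obtain ⟨-, -, -, -, -, -, -, -, -, hX'2, hX2, hX12, hc1, hc2, hc3⟩ := rel_eqs
  have mk : ∀ M : M3, M.det = 1 → M.adjugate = M → ∀ A ∈ I, M * A * M ∈ I := fun M hM h A hA => by
    simpa only [h] using hconj M hM A hA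
  have htwo : ∀ A : I, A + A = 0 := fun A => Subtype.ext <| by
    funext i j; exact CharTwo.add_self_eq_zero _
  obtain ⟨A, hA, hA0⟩ := (AddSubgroup.bot_or_exists_ne_zero I).resolve_left hI
  obtain ⟨⟨B, hB⟩, hB0, h1, h2, h3⟩ := exists_fixed_three htwo
    (fun A => (⟨X * A.1 * X, mk X det_X aX _ A.2⟩ : I))
    (fun A => ⟨X' * A.1 * X', mk X' det_X' aX' _ A.2⟩) (fun A => ⟨X1 * A.1 * X1, mk X1 det_X1 a1 _ A.2⟩)
    (fun u v => Subtype.ext (by simp [mul_add, add_mul]))
    (fun u v => Subtype.ext (by simp [mul_add, add_mul]))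
    (fun u v => Subtype.ext (by simp [mul_add, add_mul]))
    (fun v => Subtype.ext (by simp [← mul_assoc, hX2]; simp [mul_assoc, hX2]))
    (fun v => Subtype.ext (by simp [← mul_assoc, hX'2]; simp [mul_assoc, hX'2]))
    (fun v => Subtype.ext (by simp [← mul_assoc, hX12]; simp [mul_assoc, hX12]))
    (fun v => Subtype.ext (by
      show X * (X' * v.1 * X') * X = X' * (X * v.1 * X) * X'
      calc X * (X' * v.1 * X') * X = X * X' * v.1 * (X' * X) := by simp only [mul_assoc]
        _ = X' * X * v.1 * (X * X') := by rw [hc1]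
        _ = _ := by simp only [mul_assoc]))
    (fun v => Subtype.ext (by
      show X * (X1 * v.1 * X1) * X = X1 * (X * v.1 * X) * X1
      calc X * (X1 * v.1 * X1) * X = X * X1 * v.1 * (X1 * X) := by simp only [mul_assoc]
        _ = X1 * X * v.1 * (X * X1) := by rw [hc2]
        _ = _ := by simp only [mul_assoc]))
    (fun v => Subtype.ext (by
      show X' * (X1 * v.1 * X1) * X' = X * (X1 * (X' * v.1 * X') * X1) * X
      have hr : X1 * X' = X' * X1 * X := by decide +kernel
      calc X' * (X1 * v.1 * X1) * X' = X' * X1 * v.1 * (X1 * X') := by simp only [mul_assoc]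
        _ = X * (X1 * X') * v.1 * (X' * X1 * X) := congrArg₂ (fun p q => p * v.1 * q) hc3 hr
        _ = _ := by simp only [mul_assoc]))
    (v := ⟨A, hA⟩) (fun e => hA0 (congrArg Subtype.val e))
  have hN : B = 1 ∨ N ∈ I := by
    rcases commutant B (congrArg Subtype.val h1) (congrArg Subtype.val h2) (congrArg Subtype.val h3) with
      e | e | e | e
    · exact absurd (Subtype.ext e) hB0
    · exact Or.inl e
    · exact Or.inr (e ▸ hB)
    · subst e
      have h := I.add_mem hB (hconj S det_S _ hB)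
      rw [hR] at h
      have h' := hconj _ (det_adj det_R) _ h
      rw [hRN] at h'
      exact Or.inr h'
  rcases hN with e | h
  · exact Or.inl (e ▸ hB)
  · exact Or.inr (hG ▸ I.add_mem (I.add_mem (I.add_mem (hconj C det_C _ h)
      (hconj _ (det_adj det_C) _ h)) h) (hconj P det_P _ h))

end Cfsg.Agent.SEMain.Omega
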