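import Mathlib.LinearAlgebra.Matrix.Determinant.Basic
import Mathlib.LinearAlgebra.Matrix.Adjugate
import Mathlib.LinearAlgebra.Matrix.Notation
import Mathlib.Data.ZMod.Basic

/-!
Elementary facts about `GL(3,2)` used for groups whose involutions form an elementary abelian group of order 8.
-/

set_option autoImplicit false

namespace Cfsg.Agent.SEMain.Omega

open Matrix

/-- Vectors of `F_2^3`. -/
abbrev V3 := Fin 3 → ZMod 2

/-- Matrices over `F_2` of size 3. -/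
abbrev M3 := Matrix (Fin 3) (Fin 3) (ZMod 2)

namespace Mat

/-- First basis vector. -/
def e1 : V3 := ![1, 0, 0]
/-- Second basis vector. -/
def e2 : V3 := ![0, 1, 0]
/-- Third basis vector. -/
def e3 : V3 := ![0, 0, 1]
/-- The transvection with centre `e1` and axis `<e1, e2>`. -/
def X : M3 := !![1, 0, 1; 0, 1, 0; 0, 0, 1]
/-- The transvection with centre `e1` and axis `<e1, e3>`. -/
def X' : M3 := !![1, 1, 0; 0, 1, 0; 0, 0, 1]
/-- The transvection with centre `e2` and axis `<e1, e2>`. -/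
def X1 : M3 := !![1, 0, 0; 0, 1, 1; 0, 0, 1]
/-- Exchange of `e2` and `e3`. -/
def S : M3 := !![1, 0, 0; 0, 0, 1; 0, 1, 0]
/-- Exchange of `e1` and `e2`. -/
def P : M3 := !![0, 1, 0; 1, 0, 0; 0, 0, 1]
/-- The transvection with centre `e2` and axis `<e2, e3>`. -/
def Y2 : M3 := !![1, 0, 0; 1, 1, 0; 0, 0, 1]

theorem det_X : X.det = 1 := by decide +kernel
theorem det_X' : X'.det = 1 := by decide +kernel
theorem det_X1 : X1.det = 1 := by decide +kernel
theorem det_S : S.det = 1 := by decide +kernel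
theorem det_P : P.det = 1 := by decide +kernel
theorem det_Y2 : Y2.det = 1 := by decide +kernel

theorem det_mul_one {M N : M3} (hM : M.det = 1) (hN : N.det = 1) : (M * N).det = 1 := by
  rw [det_mul, hM, hN, one_mul]

theorem adj_mul {M : M3} (hM : M.det = 1) : M.adjugate * M = 1 := by
  rw [adjugate_mul, hM, one_smul]

theorem det_adj {M : M3} (hM : M.det = 1) : M.adjugate.det = 1 := by
  rw [det_adjugate, hM, one_pow]

theorem exists_first : ∀ u : V3, u ≠ 0 → ∃ M : M3, M.det = 1 ∧ M *ᵥ e1 = u := by decide +kernel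

theorem exists_pair : ∀ u w : V3, u ≠ 0 → w ≠ 0 → u ≠ w →
    ∃ M : M3, M.det = 1 ∧ M *ᵥ e1 = u ∧ M *ᵥ e2 = w := by decide +kernel

/-- The 24 words in the stabiliser of `e1`. -/
def stabWords : List M3 :=
  ([1, X1, S, X1 * S, S * X1, X1 * S * X1] : List M3).flatMap fun w =>
    [w, X * w, X' * w, X * X' * w]

theorem mem_stabWords : ∀ M : M3, M.det = 1 → M *ᵥ e1 = e1 → M ∈ stabWords := by decide +kernel

theorem fix_D8 : ∀ u : V3, X *ᵥ u = u → X' *ᵥ u = u → X1 *ᵥ u = u → u = 0 ∨ u = e1 := by decide +kernel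

theorem fix_centre : ∀ u : V3, X *ᵥ u = u → X' *ᵥ u = u → u = 0 ∨ u = e1 := by decide +kernel

theorem fix_axis : ∀ u : V3, X *ᵥ u = u → X1 *ᵥ u = u → P *ᵥ u = u → u = 0 ∨ u = e1 + e2 := by
  decide +kernel

theorem add_X : ∀ u : V3, u + X *ᵥ u = 0 ∨ u + X *ᵥ u = e1 := by decide +kernel

theorem rel_eqs : S * X = X' * S ∧ S * X' = X * S ∧ P * X = X1 * P ∧ P * X1 = X * P ∧
    P * X' = Y2 * P ∧ Y2 * (X' * P) = X' ∧ Y2 * Y2 = 1 ∧ S * S = 1 ∧ P * P = 1 ∧ X' * X' = 1 ∧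
    X * X = 1 ∧ X1 * X1 = 1 ∧ X * X' = X' * X ∧ X * X1 = X1 * X ∧ X' * X1 = X * (X1 * X') := by
  decide +kernel

theorem vec_eqs : e1 ≠ 0 ∧ e2 ≠ 0 ∧ e1 ≠ e2 ∧ e1 + e2 ≠ 0 ∧ P *ᵥ e1 = e2 ∧ X' *ᵥ e2 = e1 + e2 ∧
    S *ᵥ e1 = e1 ∧ X' *ᵥ e1 = e1 ∧ e1 + e2 + (e1 + e2) = 0 := by
  decide +kernel

end Mat

end Cfsg.Agent.SEMain.Omega
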