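import Cfsg.Agent.Lib.SEMain.Omega.Base
import Cfsg.Agent.Lib.SESolv.Basic

/-!
# No group is two-fold transitive on its involutions if these form an elementary abelian group

`W` is a normal elementary abelian subgroup of a finite group containing every involution.  An element of odd
order fixing two elements of `W` leads to a smaller group of the same kind, four elements to an odd Sylow
subgroup normalised by an involution; the case of eight elements is a hypothesis here.
-/

set_option autoImplicit false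
set_option linter.style.haveILetI false
set_option linter.unusedSectionVars false

namespace Cfsg.Agent.SEMain.Omega

open Subgroup

universe u

/-- The hypotheses: `W` is normal, of exponent two, holds every involution, and conjugation is two-fold
transitive on its non-identity elements. -/
structure Cfg {X : Type u} [Group X] (W : Subgroup X) : Prop where
  normal : W.Normal
  sq : ∀ w ∈ W, w * w = 1
  invol : ∀ x : X, orderOf x = 2 → x ∈ W
  trans : ∀ a b c d : X, a ∈ W → b ∈ W → c ∈ W → d ∈ W → a ≠ 1 → b ≠ 1 → c ≠ 1 → d ≠ 1 → a ≠ b →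
    c ≠ d → ∃ x, x * a * x⁻¹ = c ∧ x * b * x⁻¹ = d

variable {X : Type u} [Group X] [Finite X] {W : Subgroup X}

/-- A subgroup of Sylow order of a group containing both is conjugate to a given Sylow subgroup. -/
theorem exists_conj_eq {p : ℕ} [Fact p.Prime] {U P Q : Subgroup X} (hP : IsPGroup p P) (hPU : P ≤ U)
    (hPcard : Nat.card P = p ^ (Nat.card U).factorization p) (hQ : IsPGroup p Q) (hQU : Q ≤ U)
    (hQcard : Nat.card Q = Nat.card P) : ∃ u ∈ U, Q.map (MulAut.conj u).toMonoidHom = P := by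
  obtain ⟨S, hS⟩ := (hP.comap_subtype : IsPGroup p (P.subgroupOf U)).exists_le_sylow
  obtain ⟨T, hT⟩ := (hQ.comap_subtype : IsPGroup p (Q.subgroupOf U)).exists_le_sylow
  obtain ⟨g, hg⟩ := MulAction.exists_smul_eq U T S
  refine ⟨g, g.2, eq_of_le_of_card_ge ?_
    (by rw [card_map_of_injective (f := (MulAut.conj (g : X)).toMonoidHom) (MulAut.conj (g : X)).injective, hQcard])⟩
  have hSP : (S : Subgroup U).map U.subtype = P := by
    refine (eq_of_le_of_card_ge (show P ≤ (S : Subgroup U).map U.subtype from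
      fun y hy => mem_map.2 ⟨⟨y, hPU hy⟩, hS hy, rfl⟩) ?_).symm
    rw [card_map_of_injective U.subtype_injective, S.card_eq_multiplicity, hPcard]
  rintro _ ⟨q, hq, rfl⟩
  rw [MulEquiv.coe_toMonoidHom, MulAut.conj_apply, ← hSP]
  refine ⟨g * ⟨q, hQU hq⟩ * g⁻¹, ?_, rfl⟩
  rw [← hg, Sylow.coe_subgroup_smul, SetLike.mem_coe, Subgroup.mem_pointwise_smul_iff_inv_smul_mem]
  simpa [mul_assoc] using hT (show (⟨q, hQU hq⟩ : U) ∈ Q.subgroupOf U from hq)

/-- A conjugation fixing a subgroup lies in its normaliser. -/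
theorem mem_normalizer_of_map {P : Subgroup X} {g : X} (h : P.map (MulAut.conj g).toMonoidHom = P) :
    g ∈ normalizer (P : Set X) := mem_normalizer_iff.2 fun y => by
  constructor
  · intro hy
    rw [← h]
    exact ⟨y, hy, rfl⟩
  · intro hy
    rw [← h] at hy
    obtain ⟨z, hz, e⟩ := hy
    rw [MulEquiv.coe_toMonoidHom, MulAut.conj_apply] at e
    rwa [← mul_left_cancel (mul_right_cancel e)]

variable (hc : Cfg W)
include hc

omit [Finite X] in
theorem comm_mem {a b : X} (ha : a ∈ W) (hb : b ∈ W) : a * b = b * a := by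
  have h1 := hc.sq _ (mul_mem ha hb)
  calc a * b = (a * b) * ((b * a) * (b * a)) := by rw [hc.sq _ (mul_mem hb ha), mul_one]
    _ = (a * (b * b) * a) * (b * a) := by group
    _ = b * a := by rw [hc.sq b hb, mul_one, hc.sq a ha, one_mul]

/-- An element of `W` normalising an odd subgroup centralises it. -/
theorem commute_of_normalizer {P : Subgroup X} (hP : Odd (Nat.card P)) {w y : X} (hw : w ∈ W)
    (hwP : w ∈ normalizer (P : Set X)) (hy : y ∈ P) : w * y = y * w := by
  haveI := hc.normal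
  set z := w * y * w⁻¹ * y⁻¹ with hz
  have hzW : z ∈ W := by
    rw [hz, show w * y * w⁻¹ * y⁻¹ = w * (y * w⁻¹ * y⁻¹) by group]
    exact mul_mem hw (hc.normal.conj_mem _ (inv_mem hw) y)
  have hzP : z ∈ P := mul_mem ((mem_normalizer_iff.1 hwP y).1 hy) (inv_mem hy)
  have hz1 : z = 1 := Invol.eq_one_of_sq_of_odd (hP.of_dvd_nat (orderOf_dvd_natCard P hzP))
    (by rw [pow_two]; exact hc.sq z hzW)
  rwa [hz, mul_inv_eq_one, mul_inv_eq_iff_eq_mul] at hz1

/-- An involution normalising an odd subgroup centralises it. -/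
theorem invol_comm {P : Subgroup X} (hP : Odd (Nat.card P)) {i y : X} (hi : orderOf i = 2)
    (hiP : i ∈ normalizer (P : Set X)) (hy : y ∈ P) : i * y = y * i :=
  commute_of_normalizer hc hP (hc.invol i hi) hiP hy

/-- More than four elements are needed. -/
theorem card_ne_four : Nat.card W ≠ 4 := by
  intro h4
  haveI := hc.normal
  obtain ⟨a, haW, ha, -⟩ := exists_ne_ne W (by omega) 1
  obtain ⟨b, hbW, hb, hba⟩ := exists_ne_ne W (by omega) a
  have habW : a * b ∈ W := mul_mem haW hbW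
  have hab1 : a * b ≠ 1 := fun e => hba (mul_left_cancel (e.trans (hc.sq a haW).symm))
  have hbab : b ≠ a * b := fun e => ha (mul_eq_right.1 e.symm)
  obtain ⟨x, hxa, hxb⟩ := hc.trans a b b (a * b) haW hbW hbW habW ha hb hb hab1 (Ne.symm hba) hbab
  obtain ⟨y, hya, hyb⟩ := hc.trans a b b a haW hbW hbW haW ha hb hb ha (Ne.symm hba) hba
  have hmem : ∀ w ∈ W, w = 1 ∨ w = a ∨ w = b ∨ w = a * b := by
    intro w hw
    by_contra hno
    simp only [not_or] at hno
    obtain ⟨h1, h2, h3, h4'⟩ := hno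
    have hsub : ({1, a, b, a * b, w} : Set X) ⊆ (W : Set X) := by
      rintro z (rfl | rfl | rfl | rfl | rfl)
      exacts [one_mem W, haW, hbW, habW, hw]
    have h5 : ({1, a, b, a * b, w} : Set X).ncard ≤ Nat.card W :=
      (Set.ncard_le_ncard hsub (Set.toFinite _)).trans_eq (Nat.card_coe_set_eq _).symm
    have hab : a ≠ a * b := fun e => hb (mul_eq_left.1 e.symm)
    have e : ({1, a, b, a * b, w} : Set X).ncard = 5 := by
      rw [Set.ncard_insert_of_notMem (by simp [Ne.symm ha, Ne.symm hb, Ne.symm hab1, Ne.symm h1]),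
        Set.ncard_insert_of_notMem (by simp [Ne.symm hba, hab, Ne.symm h2]),
        Set.ncard_insert_of_notMem (by simp [hbab, Ne.symm h3]),
        Set.ncard_insert_of_notMem (by simp [Ne.symm h4']), Set.ncard_singleton]
    omega
  set φ : X →* MulAut W := MulAut.conjNormal with hφ
  have happly : ∀ (g : X) (w : W), ((φ g w : W) : X) = g * w * g⁻¹ := fun g w => rfl
  have hab' : x * (a * b) * x⁻¹ = a := by
    rw [show x * (a * b) * x⁻¹ = (x * a * x⁻¹) * (x * b * x⁻¹) by group, hxa, hxb,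
      comm_mem hc haW hbW, ← mul_assoc, hc.sq b hbW, one_mul]
  have hyab : y * (a * b) * y⁻¹ = a * b := by
    rw [show y * (a * b) * y⁻¹ = (y * a * y⁻¹) * (y * b * y⁻¹) by group, hya, hyb, comm_mem hc haW hbW]
  have hya' : y⁻¹ * a * y = b := by
    nth_rw 1 [← hyb]; group
  have hyb' : y⁻¹ * b * y = a := by
    nth_rw 1 [← hya]; group
  have hx3 : φ x ^ 3 = 1 := by
    refine MulEquiv.ext fun w => Subtype.ext ?_
    rw [← map_pow, happly]
    show x ^ 3 * (w : X) * (x ^ 3)⁻¹ = w
    rw [show x ^ 3 = x * (x * x) by rw [pow_succ, pow_two, mul_assoc],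
      show x * (x * x) * (w : X) * (x * (x * x))⁻¹ = x * (x * (x * w * x⁻¹) * x⁻¹) * x⁻¹ by group]
    rcases hmem w w.2 with h | h | h | h <;> rw [h]
    · group
    · rw [hxa, hxb, hab']
    · rw [hxb, hab', hxa]
    · rw [hab', hxa, hxb]
  have hx1 : φ x ≠ 1 := fun e => hba (by
    have := happly x ⟨a, haW⟩
    rw [e] at this
    exact (this.trans hxa).symm)
  have hinv : φ y * φ x * (φ y)⁻¹ = (φ x)⁻¹ := by
    rw [eq_inv_iff_mul_eq_one]
    refine MulEquiv.ext fun w => Subtype.ext ?_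
    rw [← map_inv, ← map_mul, ← map_mul, ← map_mul, happly]
    show y * x * y⁻¹ * x * (w : X) * (y * x * y⁻¹ * x)⁻¹ = w
    rw [show y * x * y⁻¹ * x * (w : X) * (y * x * y⁻¹ * x)⁻¹ =
      y * (x * (y⁻¹ * (x * w * x⁻¹) * y) * x⁻¹) * y⁻¹ by group]
    rcases hmem w w.2 with h | h | h | h <;> rw [h]
    · group
    · rw [hxa, hyb', hxa, hyb]
    · rw [hxb, show y⁻¹ * (a * b) * y = (y⁻¹ * a * y) * (y⁻¹ * b * y) by group, hya', hyb',
        show x * (b * a) * x⁻¹ = x * (a * b) * x⁻¹ by rw [comm_mem hc haW hbW], hab', hya]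
    · rw [hab', hya', hxb, hyab]
  haveI : Fact (Nat.Prime 3) := ⟨Nat.prime_three⟩
  set σ := φ x with hσ
  have hord : orderOf σ = 3 := orderOf_eq_prime hx3 hx1
  set U := (zpowers σ).comap φ with hU
  have hyU : ∀ z ∈ U, y * z * y⁻¹ ∈ U := by
    intro z hz
    obtain ⟨k, hk⟩ := hz
    show φ (y * z * y⁻¹) ∈ zpowers σ
    rw [map_mul, map_mul, map_inv, ← hk]
    refine ⟨-k, ?_⟩
    show σ ^ (-k) = φ y * σ ^ k * (φ y)⁻¹
    rw [← conj_zpow, hinv, inv_zpow, zpow_neg]
  -- a Sylow 3-subgroup moved only as `x`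
  obtain ⟨S⟩ : Nonempty (Sylow 3 U) := inferInstance
  set P := (S : Subgroup U).map U.subtype with hP
  have hPp : IsPGroup 3 P := S.isPGroup'.map _
  have hPU : P ≤ U := map_subtype_le _
  have hPcard : Nat.card P = 3 ^ (Nat.card U).factorization 3 := by
    rw [hP, card_map_of_injective U.subtype_injective, S.card_eq_multiplicity]
  obtain ⟨z, hz, hzσ⟩ : ∃ z ∈ P, φ z ≠ 1 := by
    by_contra hno
    push Not at hno
    obtain ⟨e, m, h3m, hm⟩ := Nat.exists_eq_pow_mul_and_not_dvd (orderOf_pos x).ne' 3 (by norm_num)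
    have hxm : IsPGroup 3 (zpowers (x ^ m)) := by
      obtain ⟨j, -, hj⟩ := (Nat.dvd_prime_pow Nat.prime_three).1
        (orderOf_dvd_of_pow_eq_one (x := x ^ m) (n := 3 ^ e) (by
          rw [← pow_mul, mul_comm, ← hm, pow_orderOf_eq_one]))
      exact IsPGroup.of_card (n := j) (by rw [Nat.card_zpowers, hj])
    have hxU : zpowers (x ^ m) ≤ U := zpowers_le.2 (pow_mem (show x ∈ U from mem_comap.2 (mem_zpowers σ)) m)
    obtain ⟨T, hT⟩ := (hxm.comap_subtype : IsPGroup 3 ((zpowers (x ^ m)).subgroupOf U)).exists_le_sylow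
    obtain ⟨g, hg⟩ := MulAction.exists_smul_eq U T S
    have h1 : g * ⟨x ^ m, hxU (mem_zpowers _)⟩ * g⁻¹ ∈ (S : Subgroup U) := by
      rw [← hg, Sylow.coe_subgroup_smul, Subgroup.mem_pointwise_smul_iff_inv_smul_mem]
      simpa [mul_assoc] using hT (show (⟨x ^ m, hxU (mem_zpowers _)⟩ : U) ∈ _ from mem_zpowers (x ^ m))
    have h2 := hno _ (mem_map_of_mem U.subtype h1)
    simp only [coe_subtype, map_mul, map_inv, map_pow] at h2
    rw [mul_inv_eq_one, mul_eq_left, ← hσ] at h2
    exact h3m (hord ▸ orderOf_dvd_of_pow_eq_one h2)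
  -- an element of even order normalises it
  obtain ⟨u, hu, huP⟩ := exists_conj_eq hPp hPU hPcard (hPp.map (MulAut.conj y).toMonoidHom)
    (by
      rintro _ ⟨z', hz', rfl⟩
      rw [MulEquiv.coe_toMonoidHom, MulAut.conj_apply]
      exact hyU z' (hPU hz'))
    (card_map_of_injective (f := (MulAut.conj y).toMonoidHom) (MulAut.conj y).injective)
  have hn : u * y ∈ normalizer (P : Set X) := mem_normalizer_of_map (by
    rw [show (MulAut.conj (u * y)).toMonoidHom =
      (MulAut.conj u).toMonoidHom.comp (MulAut.conj y).toMonoidHom from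
        MonoidHom.ext fun z' => by simp [mul_assoc], ← Subgroup.map_map, huP])
  have heven : Even (orderOf (u * y)) := by
    by_contra hodd
    rw [Nat.not_even_iff_odd] at hodd
    obtain ⟨k, hk⟩ := hu
    have hk' : σ ^ k = φ u := hk
    have hy2 : φ y * φ y = 1 := MulEquiv.ext fun w => Subtype.ext (by
      rw [← map_mul, happly]
      show y * y * (w : X) * (y * y)⁻¹ = w
      rw [show y * y * (w : X) * (y * y)⁻¹ = y * (y * w * y⁻¹) * y⁻¹ by group]
      rcases hmem w w.2 with h | h | h | h <;> rw [h]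
      · group
      · rw [hya, hyb]
      · rw [hyb, hya]
      · rw [hyab, hyab])
    have hsq : φ (u * y) ^ 2 = 1 := by
      have h1 : φ y * σ ^ k * (φ y)⁻¹ = (σ ^ k)⁻¹ := by rw [← conj_zpow, hinv, inv_zpow]
      rw [map_mul, ← hk', pow_two,
        show σ ^ k * φ y * (σ ^ k * φ y) = σ ^ k * (φ y * σ ^ k * (φ y)⁻¹) * (φ y * φ y) by group, h1, hy2,
        mul_inv_cancel, one_mul]
    have h1 : φ (u * y) = 1 :=
      Invol.eq_one_of_sq_of_odd (hodd.of_dvd_nat (orderOf_map_dvd φ _)) hsq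
    rw [map_mul, ← hk', mul_eq_one_iff_inv_eq] at h1
    have h2 : σ = σ⁻¹ := by
      rw [← hinv, ← h1]; group
    have h3 : σ ^ 2 = 1 := by rw [pow_two]; nth_rw 2 [h2]; rw [mul_inv_cancel]
    have := Nat.le_of_dvd (by norm_num) (orderOf_dvd_of_pow_eq_one h3)
    omega
  obtain ⟨m, hm⟩ := heven
  have hi : orderOf ((u * y) ^ m) = 2 := by
    have := orderOf_pos (u * y)
    rw [orderOf_pow' _ (by omega : m ≠ 0), hm, show m + m = 2 * m by ring,
      Nat.gcd_eq_right (dvd_mul_left m 2), Nat.mul_div_cancel _ (by omega : 0 < m)]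
  have hiP : (u * y) ^ m ∈ normalizer (P : Set X) := pow_mem hn m
  have hPodd : Odd (Nat.card P) := by rw [hPcard]; exact (by decide : Odd 3).pow
  have hcomm := invol_comm hc hPodd hi hiP hz
  have hiW := hc.invol _ hi
  have hfixz : φ z ⟨_, hiW⟩ = ⟨_, hiW⟩ := Subtype.ext (by
    rw [happly, ← hcomm, mul_inv_cancel_right])
  obtain ⟨j, hj⟩ := hPU hz
  have hj' : σ ^ j = φ z := hj
  have hσmem : σ ∈ zpowers (φ z) := by
    have hle : zpowers (φ z) ≤ zpowers σ := zpowers_le.2 ⟨j, hj⟩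
    have hdvd : orderOf (φ z) ∣ 3 := by
      rw [← hord, ← Nat.card_zpowers, ← Nat.card_zpowers]; exact card_dvd_of_le hle
    rcases (Nat.dvd_prime Nat.prime_three).1 hdvd with h | h
    · exact absurd (orderOf_eq_one_iff.1 h) hzσ
    · exact (eq_of_le_of_card_ge hle (by rw [Nat.card_zpowers, Nat.card_zpowers, h, hord])).ge (mem_zpowers σ)
  obtain ⟨k, hk⟩ := hσmem
  have hσi : σ ⟨_, hiW⟩ = ⟨_, hiW⟩ := by
    rw [← hk]
    exact zpow_mem (K := (MulAction.stabilizer (MulAut W) (⟨_, hiW⟩ : W))) hfixz k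
  have hσi' : x * (u * y) ^ m * x⁻¹ = (u * y) ^ m := congrArg Subtype.val hσi
  rcases hmem _ hiW with h | h | h | h <;> rw [h] at hσi'
  · rw [h, orderOf_one] at hi; omega
  · exact hba (hxa.symm.trans hσi')
  · exact hbab (hσi'.symm.trans hxb)
  · exact hb (mul_eq_left.1 (hσi'.symm.trans hab'))

omit hc in
/-- No such configuration exists, given the case of eight elements. -/
theorem not_twoTransitive_of_eight
    (h8 : ∀ (Y : Type u) [Group Y] [Finite Y] (V : Subgroup Y), Cfg V → Nat.card V = 8 → False) :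
    ∀ (X : Type u) [Group X] [Finite X] (W : Subgroup X), Cfg W → 2 < Nat.card W → False := by
  suffices H : ∀ (n : ℕ) (X : Type u) [Group X] [Finite X], Nat.card X = n → ∀ (W : Subgroup X),
      Cfg W → 2 < Nat.card W → False from fun X _ _ W => H _ X rfl W
  intro n
  induction n using Nat.strong_induction_on with
  | _ n ih =>
  intro X _ _ hn W hc hW
  classical
  haveI := hc.normal
  set φ : X →* MulAut W := MulAut.conjNormal with hφ
  have hφ1 : ∀ (g : X) (w : W), φ g w = w ↔ g * (w : X) = (w : X) * g := fun g w => by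
    rw [Subtype.ext_iff, MulAut.conjNormal_apply, mul_inv_eq_iff_eq_mul]
  by_cases hodd : ∃ (g a b : X) (p : ℕ), p.Prime ∧ p ≠ 2 ∧ a ∈ W ∧ b ∈ W ∧ a ≠ 1 ∧ b ≠ 1 ∧ a ≠ b ∧
      g * a = a * g ∧ g * b = b * g ∧ p ∣ orderOf (φ g)
  · obtain ⟨g, a, b, p, hp, hp2, ha, hb, ha1, hb1, hab, hga, hgb, hpg⟩ := hodd
    haveI := Fact.mk hp
    set S := centralizer ({a, b} : Set X) with hS
    have hgS : g ∈ S := mem_centralizer_iff.2 fun z hz => by
      rcases hz with rfl | rfl
      exacts [hga.symm, hgb.symm]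
    obtain ⟨S₀⟩ : Nonempty (Sylow p S) := inferInstance
    set P := (S₀ : Subgroup S).map S.subtype with hP
    have hPp : IsPGroup p P := S₀.isPGroup'.map _
    have hPS : P ≤ S := map_subtype_le _
    have hPcard : Nat.card P = p ^ (Nat.card S).factorization p := by
      rw [hP, card_map_of_injective S.subtype_injective, S₀.card_eq_multiplicity]
    have hPodd : Odd (Nat.card P) := by rw [hPcard]; exact (hp.odd_of_ne_two hp2).pow
    obtain ⟨z, hz, hzW⟩ : ∃ z ∈ P, φ z ≠ 1 := by
      by_contra hno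
      push Not at hno
      obtain ⟨e, m, hpm, hm⟩ := Nat.exists_eq_pow_mul_and_not_dvd (orderOf_pos g).ne' p hp.ne_one
      have hgp : IsPGroup p (zpowers (g ^ m)) := by
        obtain ⟨j, -, hj⟩ := (Nat.dvd_prime_pow hp).1 (orderOf_dvd_of_pow_eq_one (x := g ^ m) (n := p ^ e)
          (by rw [← pow_mul, mul_comm, ← hm, pow_orderOf_eq_one]))
        exact IsPGroup.of_card (n := j) (by rw [Nat.card_zpowers, hj])
      have hgle : zpowers (g ^ m) ≤ S := zpowers_le.2 (pow_mem hgS m)
      obtain ⟨T, hT⟩ := (hgp.comap_subtype : IsPGroup p ((zpowers (g ^ m)).subgroupOf S)).exists_le_sylow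
      obtain ⟨d, hd⟩ := MulAction.exists_smul_eq S T S₀
      have h1 : d * ⟨g ^ m, hgle (mem_zpowers _)⟩ * d⁻¹ ∈ (S₀ : Subgroup S) := by
        rw [← hd, Sylow.coe_subgroup_smul, Subgroup.mem_pointwise_smul_iff_inv_smul_mem]
        simpa [mul_assoc] using hT (show (⟨g ^ m, hgle (mem_zpowers _)⟩ : S) ∈ _ from mem_zpowers (g ^ m))
      have h2 := hno _ (mem_map_of_mem S.subtype h1)
      simp only [coe_subtype, map_mul, map_inv, map_pow] at h2
      rw [mul_inv_eq_one, mul_eq_left] at h2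
      exact hpm (hpg.trans (orderOf_dvd_of_pow_eq_one h2))
    set W₀ := W ⊓ centralizer (P : Set X) with hW₀
    have hmemW₀ : ∀ {w : X}, w ∈ W → (∀ q ∈ P, q * w = w * q) → w ∈ W₀ := fun {w} h1 h2 =>
      mem_inf.2 ⟨h1, mem_centralizer_iff.2 h2⟩
    have haW₀ : a ∈ W₀ := hmemW₀ ha fun q hq => ((mem_centralizer_iff.1 (hPS hq)) a (by simp)).symm
    have hbW₀ : b ∈ W₀ := hmemW₀ hb fun q hq => ((mem_centralizer_iff.1 (hPS hq)) b (by simp)).symm
    set N := normalizer (P : Set X) with hN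
    have hW₀N : W₀ ≤ N := fun w hw => mem_normalizer_of_map (by
      ext q
      simp only [mem_map, MulEquiv.coe_toMonoidHom, MulAut.conj_apply]
      constructor
      · rintro ⟨q', hq', rfl⟩
        rwa [← (mem_centralizer_iff.1 (mem_inf.1 hw).2) q' hq', mul_inv_cancel_right]
      · intro hq
        exact ⟨q, hq, by rw [← (mem_centralizer_iff.1 (mem_inf.1 hw).2) q hq, mul_inv_cancel_right]⟩)
    haveI : (P.subgroupOf N).Normal := normal_in_normalizer
    set π := QuotientGroup.mk' (P.subgroupOf N) with hπ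
    set V := (W₀.subgroupOf N).map π with hV
    haveI hW₀n : (W₀.subgroupOf N).Normal := ⟨fun w hw q => by
      rw [mem_subgroupOf] at hw ⊢
      refine hmemW₀ (hc.normal.conj_mem _ (mem_inf.1 hw).1 (q : X)) fun r hr => ?_
      have h1 : (q : X)⁻¹ * r * q ∈ P := (mem_normalizer_iff''.1 q.2 r).1 hr
      have h2 : (q : X)⁻¹ * r * q * (w : X) = (w : X) * ((q : X)⁻¹ * r * q) :=
        (mem_centralizer_iff.1 (mem_inf.1 hw).2) _ h1
      push_cast
      calc r * ((q : X) * w * (q : X)⁻¹) = (q : X) * ((q : X)⁻¹ * r * q * w) * (q : X)⁻¹ := by group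
        _ = (q : X) * ((w : X) * ((q : X)⁻¹ * r * q)) * (q : X)⁻¹ := by rw [h2]
        _ = (q : X) * w * (q : X)⁻¹ * r := by group⟩
    haveI : V.Normal := hW₀n.map _ (QuotientGroup.mk'_surjective _)
    have hinj : ∀ {w : N}, (w : X) ∈ W₀ → π w = 1 → w = 1 := by
      intro w hw h1
      rw [hπ, QuotientGroup.mk'_apply, QuotientGroup.eq_one_iff, mem_subgroupOf] at h1
      exact Subtype.ext (Invol.eq_one_of_sq_of_odd (hPodd.of_dvd_nat (orderOf_dvd_natCard P h1))
        (by rw [pow_two]; exact hc.sq _ (mem_inf.1 hw).1))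
    have hker : Odd (Nat.card π.ker) := by
      rw [hπ, QuotientGroup.ker_mk', Nat.card_congr (subgroupOfEquivOfLe le_normalizer).toEquiv]
      exact hPodd
    have hcV : Cfg V := by
      refine ⟨inferInstance, ?_, fun v hv => ?_, ?_⟩
      · rintro _ ⟨w, hw, rfl⟩
        rw [← map_mul, show w * w = 1 from Subtype.ext (hc.sq _ (mem_inf.1 (mem_subgroupOf.1 hw)).1), map_one]
      · obtain ⟨i, -, hi, hiv⟩ := SESolv.exists_invol_lift π hker (L := ⊤)
          (by rw [map_top_of_surjective _ (QuotientGroup.mk'_surjective _)]; exact mem_top v) hv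
        rw [← Subgroup.orderOf_coe] at hi
        exact ⟨i, mem_subgroupOf.2 (hmemW₀ (hc.invol _ hi) fun q hq => (invol_comm hc hPodd hi i.2 hq).symm), hiv⟩
      · rintro _ _ _ _ ⟨c, hcm, rfl⟩ ⟨d, hdm, rfl⟩ ⟨e, he, rfl⟩ ⟨f, hf, rfl⟩ h1 h2 h3 h4 h12 h34
        rw [SetLike.mem_coe, mem_subgroupOf] at hcm hdm he hf
        have hne : ∀ {w : N}, π w ≠ 1 → (w : X) ≠ 1 := fun hw e' =>
          hw (by rw [show _ = (1 : N) from Subtype.ext e', map_one])
        have hwitt : ∀ {c₁ d₁ : X}, c₁ ∈ W₀ → d₁ ∈ W₀ → c₁ ≠ 1 → d₁ ≠ 1 → c₁ ≠ d₁ →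
            ∃ q ∈ N, q * a * q⁻¹ = c₁ ∧ q * b * q⁻¹ = d₁ := by
          intro c₁ d₁ hc₁ hd₁ hc₁1 hd₁1 hcd
          obtain ⟨x, hxa, hxb⟩ :=
            hc.trans a b c₁ d₁ ha hb (mem_inf.1 hc₁).1 (mem_inf.1 hd₁).1 ha1 hb1 hc₁1 hd₁1 hab hcd
          have hQS : P.map (MulAut.conj x⁻¹).toMonoidHom ≤ S := by
            rintro _ ⟨q, hq, rfl⟩
            rw [MulEquiv.coe_toMonoidHom, MulAut.conj_apply, hS]
            refine mem_centralizer_iff.2 fun w hw => ?_
            have key : ∀ {v₁ w₁ : X}, v₁ ∈ W₀ → x * w₁ * x⁻¹ = v₁ →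
                w₁ * (x⁻¹ * q * x⁻¹⁻¹) = x⁻¹ * q * x⁻¹⁻¹ * w₁ := by
              intro v₁ w₁ hv₁ hxw
              have h5 : q * v₁ = v₁ * q := (mem_centralizer_iff.1 (mem_inf.1 hv₁).2) q hq
              rw [← hxw] at h5
              calc w₁ * (x⁻¹ * q * x⁻¹⁻¹) = x⁻¹ * (x * w₁ * x⁻¹ * q) * x := by group
                _ = x⁻¹ * (q * (x * w₁ * x⁻¹)) * x := by rw [h5]
                _ = _ := by group
            rcases hw with rfl | rfl
            exacts [key hc₁ hxa, key hd₁ hxb]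
          obtain ⟨s, hs, hsP⟩ := exists_conj_eq hPp hPS hPcard (hPp.map _) hQS
            (card_map_of_injective (f := (MulAut.conj x⁻¹).toMonoidHom) (MulAut.conj x⁻¹).injective)
          have hsa : s * a = a * s := ((mem_centralizer_iff.1 hs) a (by simp)).symm
          have hsb : s * b = b * s := ((mem_centralizer_iff.1 hs) b (by simp)).symm
          refine ⟨(s * x⁻¹)⁻¹, inv_mem (mem_normalizer_of_map ?_), ?_, ?_⟩
          · rw [show (MulAut.conj (s * x⁻¹)).toMonoidHom =
              (MulAut.conj s).toMonoidHom.comp (MulAut.conj x⁻¹).toMonoidHom from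
                MonoidHom.ext fun z' => by simp [mul_assoc], ← Subgroup.map_map, hsP]
          · rw [← hxa]
            calc (s * x⁻¹)⁻¹ * a * (s * x⁻¹)⁻¹⁻¹ = x * (s⁻¹ * (a * s)) * x⁻¹ := by group
              _ = x * (s⁻¹ * (s * a)) * x⁻¹ := by rw [hsa]
              _ = _ := by group
          · rw [← hxb]
            calc (s * x⁻¹)⁻¹ * b * (s * x⁻¹)⁻¹⁻¹ = x * (s⁻¹ * (b * s)) * x⁻¹ := by group
              _ = x * (s⁻¹ * (s * b)) * x⁻¹ := by rw [hsb]
              _ = _ := by group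
        obtain ⟨q₁, hq₁, e1, e2⟩ := hwitt hcm hdm (hne h1) (hne h2) (fun e' => h12 (congrArg π (Subtype.ext e')))
        obtain ⟨q₂, hq₂, e3, e4⟩ := hwitt he hf (hne h3) (hne h4) (fun e' => h34 (congrArg π (Subtype.ext e')))
        refine ⟨π (⟨q₂, hq₂⟩ * ⟨q₁, hq₁⟩⁻¹), ?_, ?_⟩
        · rw [← map_mul, ← map_inv, ← map_mul]
          refine congrArg π (Subtype.ext ?_)
          push_cast
          rw [← e1, ← e3]; group
        · rw [← map_mul, ← map_inv, ← map_mul]
          refine congrArg π (Subtype.ext ?_)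
          push_cast
          rw [← e2, ← e4]; group
    refine ih (Nat.card (N ⧸ P.subgroupOf N)) ?_ _ rfl V hcV ?_
    · have hP1 : 1 < Nat.card P := Finite.one_lt_card_iff_nontrivial.2
        ⟨⟨z, hz⟩, 1, fun e => hzW (by rw [show z = 1 from congrArg Subtype.val e, map_one])⟩
      have h1 := card_eq_card_quotient_mul_card_subgroup (P.subgroupOf N)
      rw [Nat.card_congr (subgroupOfEquivOfLe le_normalizer).toEquiv] at h1
      have h2 : Nat.card N ≤ n := hn ▸ card_le_card_group N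
      have h3 : 0 < Nat.card (N ⧸ P.subgroupOf N) := Nat.card_pos
      nlinarith
    · have h1 : Nat.card V = Nat.card W₀ := by
        rw [hV, ← Nat.card_congr (subgroupOfEquivOfLe hW₀N).toEquiv]
        refine (Nat.card_congr (Equiv.ofBijective (fun w : W₀.subgroupOf N =>
          (⟨π w, mem_map_of_mem π w.2⟩ : (W₀.subgroupOf N).map π)) ⟨fun w w' e => ?_, ?_⟩)).symm
        · have e' : π ((w : N) * (w' : N)⁻¹) = 1 := by
            rw [map_mul, map_inv, mul_inv_eq_one]
            exact congrArg Subtype.val e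
          exact Subtype.ext (mul_inv_eq_one.1 (hinj (mem_subgroupOf.1
            ((W₀.subgroupOf N).mul_mem w.2 (inv_mem w'.2))) e'))
        · rintro ⟨_, w, hw, rfl⟩
          exact ⟨⟨w, hw⟩, rfl⟩
      rw [h1]
      have hsub : ({1, a, b} : Set X) ⊆ (W₀ : Set X) := by
        rintro w (rfl | rfl | rfl)
        exacts [one_mem W₀, haW₀, hbW₀]
      have h5 : ({1, a, b} : Set X).ncard ≤ Nat.card W₀ :=
        (Set.ncard_le_ncard hsub (Set.toFinite _)).trans_eq (Nat.card_coe_set_eq _).symm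
      rw [Set.ncard_eq_three.2 ⟨1, a, b, Ne.symm ha1, Ne.symm hb1, hab, rfl⟩] at h5
      exact h5
  · push Not at hodd
    letI : CommGroup W := { (inferInstance : Group W) with
      mul_comm := fun v w => Subtype.ext (comm_mem hc v.2 w.2) }
    have h16 := card_lt_sixteen (W := W) (fun w => Subtype.ext (hc.sq _ w.2)) φ.range ?_ ?_ hW
    · haveI : Fact (Nat.Prime 2) := ⟨Nat.prime_two⟩
      have hW2 : IsPGroup 2 W := fun w => ⟨1, by rw [pow_one, pow_two]; exact Subtype.ext (hc.sq _ w.2)⟩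
      obtain ⟨k, hk⟩ := IsPGroup.iff_card.1 hW2
      have hk4 : k < 4 := by
        by_contra h
        have := Nat.pow_le_pow_right (show 0 < 2 by norm_num) (not_lt.1 h)
        norm_num at this
        omega
      interval_cases k
      · omega
      · omega
      · exact card_ne_four hc (by rw [hk]; norm_num)
      · exact h8 X W hc (by rw [hk]; norm_num)
    · intro a b c d ha hb hcn hd hab hcd
      have hne : ∀ {w : W}, w ≠ 1 → (w : X) ≠ 1 := fun h e => h (Subtype.ext e)
      obtain ⟨x, e1, e2⟩ := hc.trans a b c d a.2 b.2 c.2 d.2 (hne ha) (hne hb) (hne hcn) (hne hd)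
        (fun e => hab (Subtype.ext e)) (fun e => hcd (Subtype.ext e))
      exact ⟨φ x, ⟨x, rfl⟩, Subtype.ext e1, Subtype.ext e2⟩
    · rintro _ ⟨g, rfl⟩ a b ha hb hab hga hgb
      refine ⟨(orderOf (φ g)).primeFactorsList.length, ?_⟩
      have h1 : orderOf (φ g) = 2 ^ (orderOf (φ g)).primeFactorsList.length :=
        Nat.eq_prime_pow_of_unique_prime_dvd (orderOf_pos _).ne' fun {q} hq hqd => by
          by_contra hq2
          exact hodd g a b q hq hq2 a.2 b.2 (fun e => ha (Subtype.ext e)) (fun e => hb (Subtype.ext e))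
            (fun e => hab (Subtype.ext e)) ((hφ1 g a).1 hga) ((hφ1 g b).1 hgb) hqd
      rw [← h1, pow_orderOf_eq_one]

end Cfsg.Agent.SEMain.Omega
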