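import Cfsg.Agent.Lib.SEMain.Omega.Last
import Cfsg.Agent.Lib.SEMain.Omega.Recursion
import Cfsg.Agent.Lib.CN.Basic
import Mathlib.GroupTheory.Frattini

/-!
No finite group has its involutions in a normal elementary abelian subgroup of order 8 on which it acts by
conjugation as a two-fold transitive group on the non-identity elements.
-/

set_option autoImplicit false
set_option linter.unusedSectionVars false
set_option linter.style.haveILetI false

namespace Cfsg.Agent.SEMain.Omega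

open Matrix Mat Subgroup

universe u

namespace Mat

theorem swap_invol : ∀ M : M3, M.det = 1 → M *ᵥ e1 = e2 → M *ᵥ e2 = e1 →
    (M ≠ 1 ∧ M * M = 1) ∨ (M * M ≠ 1 ∧ M * M * (M * M) = 1) := by decide +kernel

theorem invol_axis : ∀ M : M3, M * M = 1 → M ≠ 1 → ∃ u : V3, ∃ w : V3, ∃ v : V3,
    u ≠ 0 ∧ w ≠ 0 ∧ u ≠ w ∧ M *ᵥ u = u ∧ M *ᵥ w = w ∧ M *ᵥ v + v = u := by decide +kernel

theorem eq_X_of : ∀ M : M3, ∀ v : V3, M *ᵥ e1 = e1 ∧ M *ᵥ e2 = e2 ∧ M *ᵥ v + v = e1 → M = X := by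
  decide +kernel

theorem eq_X1_of : ∀ M : M3, ∀ v : V3, M *ᵥ e1 = e1 ∧ M *ᵥ e2 = e2 ∧ M *ᵥ v + v = e2 → M = X1 := by
  decide +kernel

theorem fix_pair : ∀ M : M3, M.det = 1 → M *ᵥ e1 = e1 → M *ᵥ e2 = e2 →
    M = 1 ∨ M = X ∨ M = X1 ∨ M = X * X1 := by decide +kernel

theorem X_e3 : X *ᵥ e3 + e3 = e1 := by decide +kernel

end Mat

variable {X : Type u} [Group X] [Finite X] {W : Subgroup X}

/-- Coordinates and the matrices of conjugation, with `W` itself as the 2-subgroup. -/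
theorem exists_three (hc : Cfg W) (h8 : Nat.card W = 8) :
    ∃ d : Three X, d.W = W := by
  classical
  -- a basis
  have hex : ∀ s : Set X, s.ncard < 8 → ∃ c ∈ W, c ∉ s := fun s hs => by
    by_contra hno
    push Not at hno
    have h := Set.ncard_le_ncard (show (W : Set X) ⊆ s from hno) (Set.toFinite _)
    rw [← Nat.card_coe_set_eq] at h
    change Nat.card W ≤ _ at h
    omega
  obtain ⟨a, ha, ha'⟩ := hex {1} (by rw [Set.ncard_singleton]; norm_num)
  obtain ⟨b, hb, hb'⟩ := hex {1, a} (lt_of_le_of_lt (Set.ncard_insert_le _ _) (by simp))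
  obtain ⟨c, hcm, hc'⟩ := hex {1, a, b, a * b} (lt_of_le_of_lt (Set.ncard_insert_le _ _)
    (by
      have h1 := Set.ncard_insert_le a ({b, a * b} : Set X)
      have h2 := Set.ncard_insert_le b ({a * b} : Set X)
      rw [Set.ncard_singleton] at h2
      omega))
  simp only [Set.mem_singleton_iff, Set.mem_insert_iff, not_or] at ha' hb' hc'
  let v : V3 → X := fun x => a ^ (x 0).val * b ^ (x 1).val * c ^ (x 2).val
  have hvm : ∀ x, v x ∈ W := fun x => mul_mem (mul_mem (pow_mem ha _) (pow_mem hb _)) (pow_mem hcm _)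
  have hp : ∀ w ∈ W, ∀ s t : ZMod 2, w ^ (s + t).val = w ^ s.val * w ^ t.val := by
    intro w hw s t
    have h : ∀ s t : ZMod 2, (s + t).val = s.val + t.val ∨ (s + t).val + 2 = s.val + t.val := by decide
    rw [← pow_add]
    rcases h s t with e | e
    · rw [e]
    · rw [← e, pow_add, pow_two, hc.sq w hw, mul_one]
  have hvadd : ∀ x y, v (x + y) = v x * v y := by
    intro x y
    simp only [v, Pi.add_apply, hp a ha, hp b hb, hp c hcm]
    set A := a ^ (x 0).val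
    set A' := a ^ (y 0).val
    set B := b ^ (x 1).val
    set B' := b ^ (y 1).val
    set C := c ^ (x 2).val
    set C' := c ^ (y 2).val
    have mA' : A' ∈ W := pow_mem ha _
    have mB : B ∈ W := pow_mem hb _
    have mB' : B' ∈ W := pow_mem hb _
    have mC : C ∈ W := pow_mem hcm _
    calc A * A' * (B * B') * (C * C') = A * (A' * B) * B' * C * C' := by group
      _ = A * (B * A') * B' * C * C' := by rw [comm_mem hc mA' mB]
      _ = A * B * ((A' * B') * C) * C' := by group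
      _ = A * B * (C * (A' * B')) * C' := by rw [comm_mem hc (mul_mem mA' mB') mC]
      _ = A * B * C * (A' * B' * C') := by group
  have hv0 : ∀ x, v x = 1 → x = 0 := by
    intro x hx
    have hval : ∀ s : ZMod 2, s = 0 ∧ s.val = 0 ∨ s = 1 ∧ s.val = 1 := by decide
    have hinv : ∀ {y z : X}, y ∈ W → y * z = 1 → z = y := fun {y z} hy h =>
      mul_left_cancel (h.trans (hc.sq y hy).symm)
    simp only [v] at hx
    rcases hval (x 0) with ⟨e0, f0⟩ | ⟨e0, f0⟩ <;> rcases hval (x 1) with ⟨e1, f1⟩ | ⟨e1, f1⟩ <;>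
      rcases hval (x 2) with ⟨e2, f2⟩ | ⟨e2, f2⟩ <;>
      simp only [f0, f1, f2, pow_zero, pow_one, one_mul, mul_one] at hx
    · funext i; fin_cases i <;> assumption
    · exact absurd hx hc'.1
    · exact absurd hx hb'.1
    · exact absurd (hinv hb hx) hc'.2.2.1
    · exact absurd hx ha'
    · exact absurd (hinv ha hx) hc'.2.1
    · exact absurd (hinv ha hx) hb'.2
    · exact absurd (hinv (mul_mem ha hb) hx) hc'.2.2.2
  have hz2 : ∀ x : V3, x + x = 0 := fun x => two_vec x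
  have hvinj : ∀ x y, v x = v y → x = y := fun x y h => by
    have h1 : v (x + y) = 1 := by rw [hvadd, h]; exact hc.sq _ (hvm y)
    calc x = x + (y + y) := by rw [hz2, add_zero]
      _ = (x + y) + y := by abel
      _ = y := by rw [hv0 _ h1, zero_add]
  have hvs : ∀ w ∈ W, ∃ x, v x = w := by
    intro w hw
    have hbij := (Function.Injective.bijective_of_nat_card_le (f := fun x => (⟨v x, hvm x⟩ : W))
      (fun x y h => hvinj x y (congrArg Subtype.val h)) (by rw [h8]; simp))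
    obtain ⟨x, hx⟩ := hbij.2 ⟨w, hw⟩
    exact ⟨x, congrArg Subtype.val hx⟩
  -- the matrices
  let vi : X → V3 := fun w => Function.invFun v w
  have hvi : ∀ w ∈ W, v (vi w) = w := fun w hw => Function.invFun_eq (hvs w hw)
  let ρ : X → M3 := fun x => Matrix.of fun i j => vi (x * v (Pi.single j 1) * x⁻¹) i
  have hspec : ∀ x y, x * v y * x⁻¹ = v (ρ x *ᵥ y) := by
    intro x y
    let f : V3 →+ V3 := AddMonoidHom.mk' (fun z => vi (x * v z * x⁻¹)) fun z z' => hvinj _ _ <| by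
      rw [hvadd, hvadd, hvi _ (hc.normal.conj_mem _ (mul_mem (hvm _) (hvm _)) x),
        hvi _ (hc.normal.conj_mem _ (hvm _) x), hvi _ (hc.normal.conj_mem _ (hvm _) x)]
      group
    have h : ρ x = LinearMap.toMatrix' (f.toZModLinearMap 2) := by
      ext i j
      simp [ρ, f, LinearMap.toMatrix'_apply]
    rw [h, ← Matrix.toLin'_apply, Matrix.toLin'_toMatrix']
    exact (hvi _ (hc.normal.conj_mem _ (hvm _) x)).symm
  have hmul : ∀ x y, ρ (x * y) = ρ x * ρ y := fun x y => Three.mulVec_inj fun z => hvinj _ _ <| by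
    rw [← mulVec_mulVec, ← hspec, ← hspec, ← hspec]; group
  have hone : ρ 1 = 1 := Three.mulVec_inj fun z => hvinj _ _ <| by
    rw [← hspec, one_mulVec]; group
  have hdet : ∀ x, (ρ x).det = 1 := fun x => by
    have h := congrArg Matrix.det (hmul x x⁻¹)
    rw [mul_inv_cancel, hone, det_one, det_mul] at h
    revert h
    generalize (ρ x).det = s
    generalize (ρ x⁻¹).det = t
    revert s t
    decide
  have hmv : ∀ x y z, ρ (x * y) *ᵥ z = ρ x *ᵥ (ρ y *ᵥ z) := fun x y z => by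
    rw [hmul, mulVec_mulVec]
  have hinv' : ∀ x z, ρ x⁻¹ *ᵥ (ρ x *ᵥ z) = z := fun x z => by
    rw [← hmv, inv_mul_cancel, hone, one_mulVec]
  have hne : ∀ {z : V3}, z ≠ 0 → v z ≠ 1 := fun hz e => hz (hv0 _ e)
  have hpair : ∀ z w z' w', z ≠ 0 → w ≠ 0 → z' ≠ 0 → w' ≠ 0 → z ≠ w → z' ≠ w' →
      ∃ x, ρ x *ᵥ z = z' ∧ ρ x *ᵥ w = w' := by
    intro z w z' w' h1 h2 h3 h4 h5 h6
    obtain ⟨x, e, e'⟩ := hc.trans _ _ _ _ (hvm z) (hvm w) (hvm z') (hvm w') (hne h1) (hne h2) (hne h3)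
      (hne h4) (fun h => h5 (hvinj _ _ h)) (fun h => h6 (hvinj _ _ h))
    rw [hspec] at e e'
    exact ⟨x, hvinj _ _ e, hvinj _ _ e'⟩
  obtain ⟨he1, he2, hne12, -, -, -, -, -, -⟩ := vec_eqs
  obtain ⟨s, hs1, hs2⟩ := hpair e1 e2 e2 e1 he1 he2 he2 he1 hne12 (Ne.symm hne12)
  obtain ⟨t, ht, ht2⟩ : ∃ t, ρ t ≠ 1 ∧ ρ t * ρ t = 1 := by
    rcases swap_invol _ (hdet s) hs1 hs2 with h | h
    · exact ⟨s, h⟩
    · exact ⟨s * s, by rw [hmul]; exact h⟩
  obtain ⟨u, w, z, hu, hw, huw, hu', hw', hz⟩ := invol_axis _ ht2 ht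
  obtain ⟨g, hg1, hg2⟩ := hpair u w e1 e2 hu hw he1 he2 huw hne12
  obtain ⟨x0, hx0⟩ : ∃ x, ρ x = Mat.X := by
    refine ⟨g * t * g⁻¹, eq_X_of _ (ρ g *ᵥ z) ⟨?_, ?_, ?_⟩⟩
    · rw [← hg1, hmv, hmv, hinv', hu']
    · rw [← hg2, hmv, hmv, hinv', hw']
    · rw [hmv, hmv, hinv', ← mulVec_add, hz, hg1]
  obtain ⟨x1, hx1⟩ : ∃ x, ρ x = X1 := by
    have hX : Mat.X *ᵥ e1 = e1 ∧ Mat.X *ᵥ e2 = e2 := by decide +kernel
    refine ⟨s * x0 * s⁻¹, eq_X1_of _ (ρ s *ᵥ e3) ⟨?_, ?_, ?_⟩⟩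
    · calc ρ (s * x0 * s⁻¹) *ᵥ e1 = ρ (s * x0 * s⁻¹) *ᵥ (ρ s *ᵥ e2) := by rw [hs2]
        _ = e1 := by rw [hmv, hmv, hinv', hx0, hX.2, hs2]
    · calc ρ (s * x0 * s⁻¹) *ᵥ e2 = ρ (s * x0 * s⁻¹) *ᵥ (ρ s *ᵥ e1) := by rw [hs1]
        _ = e2 := by rw [hmv, hmv, hinv', hx0, hX.1, hs1]
    · rw [hmv, hmv, hinv', ← mulVec_add, hx0, X_e3, hs1]
  have hsurj : ∀ M : M3, M.det = 1 → ∃ x, ρ x = M := by
    intro M hM
    have hinjM : ∀ p q, M *ᵥ p = M *ᵥ q → p = q := fun p q e => by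
      have h := congrArg (M.adjugate *ᵥ ·) e
      simpa [mulVec_mulVec, adj_mul hM] using h
    obtain ⟨x, h1, h2⟩ := hpair e1 e2 (M *ᵥ e1) (M *ᵥ e2) he1 he2
      (fun e => he1 (hinjM _ _ (e.trans (mulVec_zero M).symm)))
      (fun e => he2 (hinjM _ _ (e.trans (mulVec_zero M).symm))) hne12 (fun e => hne12 (hinjM _ _ e))
    have hN : ρ x * (ρ x⁻¹ * M) = M := by rw [← mul_assoc, ← hmul, mul_inv_cancel, hone, one_mul]
    rcases fix_pair (ρ x⁻¹ * M) (det_mul_one (hdet _) hM)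
        (by rw [← mulVec_mulVec, ← h1, hinv']) (by rw [← mulVec_mulVec, ← h2, hinv']) with e | e | e | e <;>
      rw [e] at hN
    · exact ⟨x, by rw [← hN, mul_one]⟩
    · exact ⟨x * x0, by rw [hmul, hx0, hN]⟩
    · exact ⟨x * x1, by rw [hmul, hx1, hN]⟩
    · exact ⟨x * (x0 * x1), by rw [hmul, hmul, hx0, hx1, hN]⟩
  exact ⟨{
    W := W
    Q := W
    nW := hc.normal
    nQ := hc.normal
    v := v
    ρ := ρ
    v_mem := hvm
    v_surj := hvs
    v_inj := hvinj
    v_add := hvadd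
    spec := hspec
    surj := hsurj
    le := le_rfl
    pQ := fun q => ⟨1, Subtype.ext (by simpa [pow_two] using hc.sq _ q.2)⟩
    cent := fun q hq => Three.mulVec_inj fun z => hvinj _ _ <| by
      rw [← hspec, comm_mem hc hq (hvm z), one_mulVec, mul_inv_cancel_right]
    inner := fun k hk => ⟨1, one_mem W, fun p hp => by
      obtain ⟨z, rfl⟩ := hvs p hp
      rw [hspec, hk, one_mulVec]; group⟩
    inv := fun q hq _ => hq }, rfl⟩

theorem false_of_card_eight : ∀ (Y : Type u) [Group Y] [Finite Y] (V : Subgroup Y), Cfg V →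
    Nat.card V = 8 → False := by
  suffices H : ∀ (n : ℕ) (Y : Type u) [Group Y] [Finite Y], Nat.card Y = n → ∀ (V : Subgroup Y),
      Cfg V → Nat.card V = 8 → False from fun Y _ _ V => H _ Y rfl V
  intro n
  induction n using Nat.strong_induction_on with
  | _ n ih =>
  intro Y _ _ hn W hc h8
  classical
  obtain ⟨d, rfl⟩ := exists_three hc h8
  let K : Subgroup Y :=
    { carrier := {k | d.ρ k = 1}
      one_mem' := d.ρ_one
      mul_mem' := fun {a b} (ha : d.ρ a = 1) (hb : d.ρ b = 1) =>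
        show d.ρ (a * b) = 1 by rw [d.ρ_mul, ha, hb, mul_one]
      inv_mem' := fun {a} (ha : d.ρ a = 1) =>
        show d.ρ a⁻¹ = 1 by rw [d.ρ_inv, ha, adjugate_one] }
  haveI hKn : K.Normal := ⟨fun k (hk : d.ρ k = 1) g => show d.ρ (g * k * g⁻¹) = 1 by
    rw [d.ρ_mul, d.ρ_mul, hk, mul_one, ← d.ρ_mul, mul_inv_cancel, d.ρ_one]⟩
  have hKW : ∀ {k w : Y}, k ∈ K → w ∈ d.W → k * w * k⁻¹ = w := fun {k w} (hk : d.ρ k = 1) hw => by
    obtain ⟨a, rfl⟩ := d.v_surj w hw
    rw [d.spec, hk, one_mulVec]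
  -- the kernel lies in the Frattini subgroup
  have hKΦ : K ≤ frattini Y := by
    by_contra hK
    obtain ⟨M, hM, hKM⟩ : ∃ M : Subgroup Y, IsCoatom M ∧ ¬ K ≤ M := by
      by_contra hno
      push Not at hno
      refine hK ?_
      rw [frattini, Order.radical]
      exact le_iInf₂ fun M hM => hno M hM
    have htop : M ⊔ K = ⊤ := hM.2 _ (lt_of_le_of_ne le_sup_left fun e => hKM (e ▸ le_sup_right))
    have hdec : ∀ g : Y, ∃ m ∈ M, ∀ w ∈ d.W, g * w * g⁻¹ = m * w * m⁻¹ := by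
      intro g
      have hg : g ∈ ((M ⊔ K : Subgroup Y) : Set Y) := by rw [htop]; exact mem_top g
      rw [mul_normal M K] at hg
      obtain ⟨m, hm, k, hk, rfl⟩ := hg
      refine ⟨m, hm, fun w hw => ?_⟩
      calc m * k * w * (m * k)⁻¹ = m * (k * w * k⁻¹) * m⁻¹ := by group
        _ = m * w * m⁻¹ := by rw [hKW hk hw]
    have hWM : d.W ≤ M := by
      obtain ⟨x, hx⟩ := d.surj P det_P
      obtain ⟨p, hp, hpx⟩ := hdec x
      have hρp : d.ρ p = P := by
        rw [← hx]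
        exact (Three.mulVec_inj fun a => d.v_inj _ _ (by rw [← d.spec, ← d.spec, hpx _ (d.v_mem a)])).symm
      have heven : Even (orderOf p) := by
        by_contra hodd
        obtain ⟨k, hk⟩ := Nat.not_even_iff_odd.1 hodd
        let ρh : Y →* M3 := { toFun := d.ρ, map_one' := d.ρ_one, map_mul' := d.ρ_mul }
        have h : P ^ orderOf p = 1 := by
          rw [← hρp]; show ρh p ^ _ = 1; rw [← map_pow, pow_orderOf_eq_one, map_one]
        rw [hk, pow_add, pow_mul, pow_two, (show P * P = 1 by decide +kernel), one_pow, one_mul,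
          pow_one] at h
        revert h; decide +kernel
      obtain ⟨k, hk⟩ := heven
      have hi : orderOf (p ^ k) = 2 := by
        have := orderOf_pos p
        rw [orderOf_pow' _ (by omega : k ≠ 0), hk, show k + k = 2 * k by ring,
          Nat.gcd_eq_right (dvd_mul_left k 2), Nat.mul_div_cancel _ (by omega : 0 < k)]
      have hiW := hc.invol _ hi
      have hi1 : p ^ k ≠ 1 := fun e => by rw [e, orderOf_one] at hi; omega
      intro w hw
      by_cases hw1 : w = 1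
      · rw [hw1]; exact one_mem M
      obtain ⟨o, ho, ho1, hoi⟩ : ∃ o ∈ d.W, o ≠ 1 ∧ o ≠ p ^ k :=
        exists_ne_ne d.W (by omega) (p ^ k)
      obtain ⟨o', ho', ho'1, ho'w⟩ : ∃ o ∈ d.W, o ≠ 1 ∧ o ≠ w := exists_ne_ne d.W (by omega) w
      obtain ⟨g, hg, -⟩ := hc.trans _ o w o' hiW ho hw ho' hi1 ho1 hw1 ho'1 (Ne.symm hoi) (Ne.symm ho'w)
      obtain ⟨m, hm, hmg⟩ := hdec g
      rw [← hg, hmg _ hiW]
      exact mul_mem (mul_mem hm (pow_mem hp k)) (inv_mem hm)
    refine ih (Nat.card M) ?_ M rfl (d.W.subgroupOf M) ?_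
      (by rw [Nat.card_congr (subgroupOfEquivOfLe hWM).toEquiv, h8])
    · rw [← hn]
      refine lt_of_le_of_ne M.card_le_card_group fun e => hM.1 ?_
      exact Subgroup.eq_top_of_card_eq M e
    · refine ⟨hc.normal.subgroupOf M, fun w hw => Subtype.ext (hc.sq _ (mem_subgroupOf.1 hw)),
        fun x hx => mem_subgroupOf.2 (hc.invol _ (by rwa [orderOf_coe])), ?_⟩
      intro a b c e ha hb hcW he h1 h2 h3 h4 h12 h34
      rw [mem_subgroupOf] at ha hb hcW he
      have hne : ∀ {q : M}, q ≠ 1 → (q : Y) ≠ 1 := fun h e => h (Subtype.ext e)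
      obtain ⟨g, hg, hg'⟩ := hc.trans a b c e ha hb hcW he (hne h1) (hne h2) (hne h3) (hne h4)
        (fun q => h12 (Subtype.ext q)) (fun q => h34 (Subtype.ext q))
      obtain ⟨m, hm, hmg⟩ := hdec g
      exact ⟨⟨m, hm⟩, Subtype.ext ((hmg _ ha).symm.trans hg), Subtype.ext ((hmg _ hb).symm.trans hg')⟩
  -- its 2-part
  haveI : Fact (Nat.Prime 2) := ⟨Nat.prime_two⟩
  haveI hΦ : Group.IsNilpotent (frattini Y) := frattini_nilpotent
  haveI hKnil : Group.IsNilpotent K :=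
    Group.nilpotent_of_mulEquiv (Subgroup.subgroupOfEquivOfLe hKΦ)
  obtain ⟨S⟩ : Nonempty (Sylow 2 K) := inferInstance
  haveI hSn : (S : Subgroup K).Normal :=
    ((Group.isNilpotent_of_finite_tfae (G := K)).out 0 3 rfl rfl).mp hKnil 2 inferInstance S
  haveI : Subsingleton (Sylow 2 K) := @Unique.instSubsingleton _ (Sylow.unique_of_normal S hSn)
  let Q : Subgroup Y := (S : Subgroup K).map K.subtype
  have hQmem : ∀ k, d.ρ k = 1 → (∃ j : ℕ, k ^ 2 ^ j = 1) → k ∈ Q := by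
    intro k hk ⟨j, hj⟩
    have hp : IsPGroup 2 (zpowers (⟨k, hk⟩ : K)) := by
      refine IsPGroup.of_card_dvd_pow (n := j) ?_
      rw [Nat.card_zpowers]
      exact orderOf_dvd_of_pow_eq_one (Subtype.ext (by simpa using hj))
    obtain ⟨T, hT⟩ := hp.exists_le_sylow
    rw [Subsingleton.elim T S] at hT
    exact mem_map.2 ⟨⟨k, hk⟩, hT (mem_zpowers _), rfl⟩
  have hQK : ∀ q ∈ Q, d.ρ q = 1 := by
    rintro _ ⟨k, -, rfl⟩; exact k.2
  have hQp : IsPGroup 2 Q := S.isPGroup'.map _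
  have hQpow : ∀ q ∈ Q, ∃ j : ℕ, q ^ 2 ^ j = 1 := fun q hq => by
    obtain ⟨j, hj⟩ := hQp ⟨q, hq⟩
    exact ⟨j, congrArg Subtype.val hj⟩
  have hinner : ∀ k, d.ρ k = 1 → ∃ q ∈ Q, ∀ p ∈ Q, k * p * k⁻¹ = q * p * q⁻¹ := by
    intro k hk
    obtain ⟨j, o, ho, hjo⟩ := Nat.exists_eq_pow_mul_and_not_dvd (orderOf_pos k).ne' 2 (by norm_num)
    have hcop : IsCoprime (o : ℤ) (2 ^ j : ℕ) := Nat.isCoprime_iff_coprime.2
      (Nat.Coprime.pow_right _ ((Nat.Prime.coprime_iff_not_dvd Nat.prime_two).2 ho).symm)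
    obtain ⟨s, t, hst⟩ := hcop
    set q := (k ^ o) ^ s with hq
    set k1 := (k ^ 2 ^ j) ^ t with hk1
    have hk' : k = q * k1 := by
      rw [hq, hk1, ← _root_.zpow_natCast k o, ← _root_.zpow_natCast k (2 ^ j), ← _root_.zpow_mul, ← _root_.zpow_mul, ← _root_.zpow_add,
        mul_comm (o : ℤ), mul_comm ((2 ^ j : ℕ) : ℤ), hst, _root_.zpow_one]
    have hqK : q ∈ K := zpow_mem (pow_mem (show k ∈ K from hk) o) s
    have hk1K : k1 ∈ K := zpow_mem (pow_mem (show k ∈ K from hk) _) t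
    have hqQ : q ∈ Q := hQmem q hqK ⟨j, by
      rw [hq, ← _root_.zpow_natCast, ← _root_.zpow_mul, mul_comm, _root_.zpow_mul, _root_.zpow_natCast, ← pow_mul,
        mul_comm o, ← hjo, pow_orderOf_eq_one, _root_.one_zpow]⟩
    refine ⟨q, hqQ, fun p hp => ?_⟩
    have hk1o : orderOf k1 ∣ o := orderOf_dvd_of_pow_eq_one (by
      rw [hk1, ← _root_.zpow_natCast, ← _root_.zpow_mul, mul_comm, _root_.zpow_mul, _root_.zpow_natCast, ← pow_mul, ← hjo,
        pow_orderOf_eq_one, _root_.one_zpow])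
    obtain ⟨i, hi⟩ := hQpow p hp
    have hcomm : Commute k1 p := CN.commute_of_coprime hKnil hk1K (show p ∈ K from hQK p hp)
      (Nat.Coprime.coprime_dvd_left hk1o (Nat.Coprime.coprime_dvd_right (orderOf_dvd_of_pow_eq_one hi)
        (Nat.Coprime.pow_right _ ((Nat.Prime.coprime_iff_not_dvd Nat.prime_two).2 ho).symm)))
    calc k * p * k⁻¹ = q * (k1 * p * k1⁻¹) * q⁻¹ := by rw [hk']; group
      _ = q * p * q⁻¹ := by rw [hcomm.eq, mul_inv_cancel_right]
  let d' : Three Y :=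
    { W := d.W, Q := Q, nW := d.nW,
      nQ := ⟨fun q hq g => hQmem _ (hKn.conj_mem q (hQK q hq) g) (by
        obtain ⟨j, hj⟩ := hQpow q hq
        exact ⟨j, by rw [conj_pow, hj, mul_one, mul_inv_cancel]⟩)⟩
      v := d.v, ρ := d.ρ, v_mem := d.v_mem, v_surj := d.v_surj, v_inj := d.v_inj, v_add := d.v_add
      spec := d.spec, surj := d.surj
      le := fun w hw => hQmem w (d.cent w (d.le hw)) ⟨1, by rw [pow_one, pow_two, hc.sq w hw]⟩
      pQ := hQp
      cent := hQK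
      inner := hinner
      inv := fun q _ hq2 => by
        by_cases h : q = 1
        · rw [h]; exact one_mem _
        · exact hc.invol _ (orderOf_eq_prime (by rw [pow_two, hq2]) h) }
  exact d'.false_of_invol hQmem hc.invol

end Cfsg.Agent.SEMain.Omega
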